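import Cfsg.Agent.S5893
import Cfsg.Agent.S0556
import Cfsg.Agent.SmallSimple.PSLTwoPart
import Cfsg.Agent.ClassicalGeometry.PSL2Basic
import Cfsg.Agent.H714.Tri.Out
import Cfsg.Agent.H417.CommPQ
import Cfsg.Agent.S2086
import Cfsg.Agent.Prune
set_option linter.all false
prune_inst 0x7ffffeffbffbfddfffff7e7ffffddffe3bd7dfffffdffb4bfffcfbffffffb31e3fe5fbaf9de0f8ff5ef7e6be38b87c13fbffdeffef6bfd7ffffd5ff45ffbee1ff7ffbfbd71f7bf74dffe6ffffbf17fce7f3fffffffffffffffffffffffffffbeffffffffffff
open scoped Cfsg.Agent.FastGrp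

-- part: H714/Tri/Sub
section
/-!
# Subgroups of `PSL₂(q)`, `q` even, and the prime divisors of their indices (helper714)

* `TwoP n` : `n` is divisible by two different primes; `ThreeP n` : by three.
* `max_even` : indices of the maximal subgroups;
* `sub_three` : `|F| = q` even, `q - 1`, `q + 1` have two prime divisors each: a proper subgroup has index divisible
  by three primes, or it has index `q + 1` and is not abelian.
-/

set_option autoImplicit false

namespace Cfsg.Agent.H714.Tri

/-- `n` is divisible by two different primes -/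
def TwoP (n : ℕ) : Prop := ∃ a b : ℕ, a.Prime ∧ b.Prime ∧ a ≠ b ∧ a ∣ n ∧ b ∣ n

/-- `n` is divisible by three different primes -/
def ThreeP (n : ℕ) : Prop := ∃ a b c : ℕ, a.Prime ∧ b.Prime ∧ c.Prime ∧ a ≠ b ∧ a ≠ c ∧ b ≠ c ∧ a ∣ n ∧ b ∣ n ∧ c ∣ n

theorem TwoP.of_dvd {n m : ℕ} (h : TwoP n) (hnm : n ∣ m) : TwoP m := by
  obtain ⟨a, b, ha, hb, hab, h1, h2⟩ := h
  exact ⟨a, b, ha, hb, hab, h1.trans hnm, h2.trans hnm⟩

theorem ThreeP.of_dvd {n m : ℕ} (h : ThreeP n) (hnm : n ∣ m) : ThreeP m := by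
  obtain ⟨a, b, c, ha, hb, hc, hab, hac, hbc, h1, h2, h3⟩ := h
  exact ⟨a, b, c, ha, hb, hc, hab, hac, hbc, h1.trans hnm, h2.trans hnm, h3.trans hnm⟩

section psl

variable {F : Type*} [Field F] [Fintype F]

local notation "L2" => Matrix.ProjectiveSpecialLinearGroup (Fin 2)

theorem card_psl (F : Type*) [Field F] [Fintype F] : Nat.card (L2 F) * Nat.gcd 2 (Fintype.card F - 1) =
    Fintype.card F * (Fintype.card F ^ 2 - 1) := by
  rcases Nat.even_or_odd (Fintype.card F) with h | h
  · rw [Cfsg.Agent.SmallSimple.PSLTwoPart.card_psl_two_even h]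
    have h0 : 0 < Fintype.card F := Fintype.card_pos
    have : Nat.gcd 2 (Fintype.card F - 1) = 1 := by
      rw [← Nat.coprime_iff_gcd_eq_one, Nat.coprime_two_left]
      obtain ⟨k, hk⟩ := h
      exact ⟨k - 1, by omega⟩
    rw [this, mul_one]
  · rw [← Cfsg.Agent.SmallSimple.PSLTwoPart.card_psl_two_odd h]
    have : Nat.gcd 2 (Fintype.card F - 1) = 2 := by
      obtain ⟨k, hk⟩ := h
      exact Nat.gcd_eq_left ⟨k, by omega⟩
    rw [this, mul_comm]

theorem finite_psl : Finite (L2 F) := by
  unfold Matrix.ProjectiveSpecialLinearGroup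
  infer_instance

theorem card_dihedral {M : Type*} [Group M] {k : ℕ} (h : Nonempty (M ≃* DihedralGroup k)) : Nat.card M = 2 * k := by
  obtain ⟨e⟩ := h
  rw [Nat.card_congr e.toEquiv, DihedralGroup.nat_card]

theorem coprime_sq_sub_one (q : ℕ) (hq : 0 < q) : Nat.Coprime q (q ^ 2 - 1) := by
  have h1 : Nat.Coprime (q ^ 2 - 1 + 1) (q ^ 2 - 1) := by
    rw [Nat.coprime_self_add_left]
    exact Nat.coprime_one_left _
  have h2 : q ^ 2 - 1 + 1 = q ^ 2 := Nat.sub_add_cancel (Nat.one_le_pow _ _ hq)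
  rw [h2] at h1
  exact Nat.Coprime.coprime_dvd_left (dvd_pow_self q (by norm_num)) h1

theorem exists_char (F : Type*) [Field F] [Fintype F] : ∃ (p f : ℕ), p.Prime ∧ CharP F p ∧ 1 ≤ f ∧ Fintype.card F = p ^ f := by
  obtain ⟨p, hp⟩ := CharP.exists F
  obtain ⟨n, hp1, hn⟩ := FiniteField.card F p
  exact ⟨p, n, hp1, hp, n.pos, hn⟩

theorem exists_prime_of_not_dvd {i k a b : ℕ} (h : i * k = a * b) (h1 : ¬ a ∣ k) :
    ∃ r, r.Prime ∧ r ∣ a ∧ r ∣ i := by
  have hg : Nat.gcd a i ≠ 1 := by
    intro hg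
    apply h1
    exact (Nat.coprime_iff_gcd_eq_one.2 hg).dvd_of_dvd_mul_left (h ▸ dvd_mul_right a b)
  obtain ⟨r, hr, hrd⟩ := Nat.exists_prime_and_dvd hg
  exact ⟨r, hr, hrd.trans (Nat.gcd_dvd_left _ _), hrd.trans (Nat.gcd_dvd_right _ _)⟩

theorem coprime_pred {q : ℕ} (hq : 1 ≤ q) : Nat.Coprime q (q - 1) := by
  have h1 : Nat.Coprime (q - 1 + 1) (q - 1) := by
    rw [Nat.coprime_self_add_left]
    exact Nat.coprime_one_left _
  rwa [Nat.sub_add_cancel hq] at h1

theorem coprime_succ (q : ℕ) : Nat.Coprime q (q + 1) := by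
  rw [Nat.coprime_self_add_right]
  exact Nat.coprime_one_right _

theorem coprime_pred_succ {q : ℕ} (hq : 1 ≤ q) (he : Even q) : Nat.Coprime (q - 1) (q + 1) := by
  have h1 : q + 1 = (q - 1) + 2 := by omega
  rw [h1, Nat.coprime_self_add_right, Nat.coprime_two_right]
  obtain ⟨k, hk⟩ := he
  exact ⟨k - 1, by omega⟩

theorem threeP_of {q i r₁ r₂ : ℕ} (hq : 1 ≤ q) (he : Even q) (h2 : 2 ∣ i) (h1 : r₁.Prime) (h1' : r₂.Prime)
    (hr1 : r₁ ∣ q - 1) (hr2 : r₂ ∣ q + 1) (hi1 : r₁ ∣ i) (hi2 : r₂ ∣ i) : ThreeP i := by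
  have h2q : 2 ∣ q := he.two_dvd
  refine ⟨2, r₁, r₂, Nat.prime_two, h1, h1', ?_, ?_, ?_, h2, hi1, hi2⟩
  · rintro rfl
    have := Nat.dvd_gcd h2q hr1
    rw [Nat.coprime_iff_gcd_eq_one.1 (coprime_pred hq)] at this
    exact absurd this (by norm_num)
  · rintro rfl
    have := Nat.dvd_gcd h2q hr2
    rw [Nat.coprime_iff_gcd_eq_one.1 (coprime_succ q)] at this
    exact absurd this (by norm_num)
  · rintro rfl
    have := Nat.dvd_gcd hr1 hr2
    rw [Nat.coprime_iff_gcd_eq_one.1 (coprime_pred_succ hq he)] at this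
    exact h1.one_lt.ne' (Nat.dvd_one.1 this)

theorem threeP_of_twoP {q i m : ℕ} (he : Even q) (hm : Nat.Coprime q m) (h : TwoP m) (h2 : 2 ∣ i) (hi : m ∣ i) :
    ThreeP i := by
  obtain ⟨a, b, ha, hb, hab, h3, h4⟩ := h
  have key : ∀ c, c.Prime → c ∣ m → 2 ≠ c := by
    rintro c hc hcm rfl
    have := Nat.dvd_gcd he.two_dvd hcm
    rw [Nat.coprime_iff_gcd_eq_one.1 hm] at this
    exact absurd this (by norm_num)
  exact ⟨2, a, b, Nat.prime_two, ha, hb, key a ha h3, key b hb h4, hab, h2, h3.trans hi, h4.trans hi⟩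

/-- maximal subgroups, `q` even -/
theorem max_even (heven : Even (Fintype.card F)) (h4 : 4 ≤ Fintype.card F) (M : Subgroup (L2 F)) (hM : IsCoatom M) :
    (M.index = Fintype.card F + 1 ∧ Nat.card M = Fintype.card F * (Fintype.card F - 1)) ∨
      (TwoP M.index ∧ (TwoP (Fintype.card F - 1) → TwoP (Fintype.card F + 1) → ThreeP M.index)) := by
  have hfin : Finite (L2 F) := finite_psl
  obtain ⟨p, f, hp, hchar, hf, hq⟩ := exists_char F
  have hcard := Cfsg.Agent.SmallSimple.PSLTwoPart.card_psl_two_even heven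
  have hMi := M.index_mul_card
  have hM1 : M.index ≠ 1 := fun h => hM.1 (Subgroup.index_eq_one.1 h)
  set q := Fintype.card F with hqdef
  have hp2 : p = 2 := by
    have h1 : 2 ∣ p ^ f := by rw [← hq]; exact heven.two_dvd
    exact ((Nat.prime_dvd_prime_iff_eq Nat.prime_two hp).1 (Nat.prime_two.dvd_of_dvd_pow h1)).symm
  subst hp2
  have hq4 : 4 ∣ q := by
    have : 2 ≤ f := by
      by_contra hlt
      have : f = 1 := by omega
      rw [this] at hq
      omega
    rw [hq]
    exact pow_dvd_pow 2 this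
  have hm : q ^ 2 - 1 = (q - 1) * (q + 1) := by
    have := Nat.sq_sub_sq q 1
    rw [one_pow] at this
    rw [this, mul_comm]
  have hcop := coprime_sq_sub_one q (by omega)
  have hN : M.index * Nat.card M = q * (q ^ 2 - 1) := by rw [hMi, hcard]
  have hN' : M.index * Nat.card M = q * ((q - 1) * (q + 1)) := by rw [hN, hm]
  rcases Cfsg.Agent.S5893.result heven h4 M hM with h | h | h | ⟨F₀, _, _, r, hr, h2, hF, h⟩
  · left
    refine ⟨?_, h⟩
    rw [h] at hN'
    have h5 : M.index * (q * (q - 1)) = (q + 1) * (q * (q - 1)) := by rw [hN']; ring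
    exact Nat.eq_of_mul_eq_mul_right (Nat.mul_pos (by omega) (by omega)) h5
  · right
    have hk := card_dihedral h
    rw [← hqdef] at hk
    obtain ⟨c, hc⟩ := hq4
    have hidx : M.index = 2 * c * (q + 1) := by
      rw [hk] at hN'
      have h5 : M.index * (2 * (q - 1)) = (2 * c * (q + 1)) * (2 * (q - 1)) := by
        rw [hN']
        nth_rewrite 1 [hc]
        ring
      exact Nat.eq_of_mul_eq_mul_right (by omega) h5
    have h2i : 2 ∣ M.index := ⟨c * (q + 1), by rw [hidx]; ring⟩
    have hqi : q + 1 ∣ M.index := ⟨2 * c, by rw [hidx]; ring⟩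
    refine ⟨?_, fun _ h6 => threeP_of_twoP heven (coprime_succ q) h6 h2i hqi⟩
    obtain ⟨s, hs, hsd⟩ := Nat.exists_prime_and_dvd (n := q + 1) (by omega)
    refine ⟨2, s, Nat.prime_two, hs, ?_, h2i, hsd.trans hqi⟩
    rintro rfl
    omega
  · right
    have hk := card_dihedral h
    rw [← hqdef] at hk
    obtain ⟨c, hc⟩ := hq4
    have hidx : M.index = 2 * c * (q - 1) := by
      rw [hk] at hN'
      have h5 : M.index * (2 * (q + 1)) = (2 * c * (q - 1)) * (2 * (q + 1)) := by
        rw [hN']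
        nth_rewrite 1 [hc]
        ring
      exact Nat.eq_of_mul_eq_mul_right (by omega) h5
    have h2i : 2 ∣ M.index := ⟨c * (q - 1), by rw [hidx]; ring⟩
    have hqi : q - 1 ∣ M.index := ⟨2 * c, by rw [hidx]; ring⟩
    refine ⟨?_, fun h6 _ => threeP_of_twoP heven (coprime_pred (by omega)) h6 h2i hqi⟩
    obtain ⟨s, hs, hsd⟩ := Nat.exists_prime_and_dvd (n := q - 1) (by omega)
    refine ⟨2, s, Nat.prime_two, hs, ?_, h2i, hsd.trans hqi⟩
    rintro rfl
    omega
  · right
    obtain ⟨e⟩ := h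
    set s := Fintype.card F₀ with hs
    rw [← hqdef] at hF
    have hs2 : 2 ≤ s := Fintype.one_lt_card
    have hseven : Even s := by
      rw [hF] at heven
      exact (Nat.even_pow.1 heven).1
    have hs3 : 4 ≤ s := by
      obtain ⟨k, hk⟩ := hseven
      omega
    have hk : Nat.card M = s * (s ^ 2 - 1) := by
      rw [Nat.card_congr e.toEquiv]
      exact Cfsg.Agent.SmallSimple.PSLTwoPart.card_psl_two_even hseven
    have hs9 : 16 ≤ s ^ 2 := by nlinarith only [hs3]
    have hqs : s ^ 2 ≤ q := by rw [hF]; exact Nat.pow_le_pow_right (by omega) hr.two_le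
    have hn1 : ¬ q ∣ Nat.card M := by
      intro hd
      have hd3 : s ^ 2 ∣ s * (s ^ 2 - 1) := by
        rw [← hk]
        refine dvd_trans ?_ hd
        rw [hF]
        exact pow_dvd_pow s hr.two_le
      rw [pow_two] at hd3
      have h1 : s ∣ s * s - 1 := Nat.dvd_of_mul_dvd_mul_left (by omega) hd3
      have h2 := coprime_sq_sub_one s (by omega)
      rw [pow_two] at h2
      exact absurd (Nat.eq_one_of_dvd_coprimes h2 dvd_rfl h1) (by omega)
    have hsq : s ∣ q := by rw [hF]; exact dvd_pow_self s hr.ne_zero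
    have hn2 : ¬ q + 1 ∣ Nat.card M := by
      intro hd
      rw [hk] at hd
      have h5 : Nat.Coprime (q + 1) s := (Nat.Coprime.coprime_dvd_left hsq (coprime_succ q)).symm
      have h6 := Nat.le_of_dvd (by omega) (h5.dvd_of_dvd_mul_left hd)
      omega
    obtain ⟨a, ha, haq, hai⟩ := exists_prime_of_not_dvd hN' hn1
    have ha2 : a = 2 := by
      rw [hq] at haq
      exact (Nat.prime_dvd_prime_iff_eq ha Nat.prime_two).1 (ha.dvd_of_dvd_pow haq)
    subst ha2
    obtain ⟨b, hb, hbq, hbi⟩ := exists_prime_of_not_dvd (i := M.index) (k := Nat.card M) (a := q + 1)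
      (b := q * (q - 1)) (by rw [hN']; ring) hn2
    refine ⟨⟨2, b, Nat.prime_two, hb, ?_, hai, hbi⟩, fun h5 h6 => ?_⟩
    · rintro rfl
      have := (Nat.dvd_add_right heven.two_dvd).1 hbq
      exact absurd this (by norm_num)
    · by_cases hr2 : r = 2
      · subst hr2
        have hidx : M.index = s * (q + 1) := by
          have h7 : M.index * (s * (s ^ 2 - 1)) = (s * (q + 1)) * (s * (s ^ 2 - 1)) := by
            rw [← hk, hN, hm, hk]
            have : q - 1 = s ^ 2 - 1 := by rw [hF]
            rw [this]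
            nth_rewrite 1 [hF]
            ring
          exact Nat.eq_of_mul_eq_mul_right (Nat.mul_pos (by omega) (by omega)) h7
        exact threeP_of_twoP heven (coprime_succ q) h6 hai ⟨s, by rw [hidx]; ring⟩
      · have hr3 : 3 ≤ r := by
          have := hr.two_le
          omega
        have hqs3 : s ^ 3 ≤ q := by rw [hF]; exact Nat.pow_le_pow_right (by omega) hr3
        have hn3 : ¬ q - 1 ∣ Nat.card M := by
          intro hd
          rw [hk] at hd
          have h5 : Nat.Coprime (q - 1) s :=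
            (Nat.Coprime.coprime_dvd_left hsq (coprime_pred (by omega))).symm
          have h6 := Nat.le_of_dvd (by omega) (h5.dvd_of_dvd_mul_left hd)
          have h7 : s ^ 3 = s * s ^ 2 := by ring
          have h8 : 4 * s ^ 2 ≤ s * s ^ 2 := Nat.mul_le_mul_right _ hs3
          (clear * - hs9 hqs3 h6 h7 h8; omega)
        obtain ⟨c, hc, hcq, hci⟩ := exists_prime_of_not_dvd (i := M.index) (k := Nat.card M) (a := q - 1)
          (b := q * (q + 1)) (by rw [hN']; ring) hn3
        exact threeP_of (by omega) heven hai hc hb hcq hbq hci hbi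

/-- `PSL(2,F)` is not solvable. -/
theorem not_solvable (h4 : 4 ≤ Fintype.card F) : ¬ Group.IsSolvable (L2 F) := by
  intro hsol
  have hfin : Finite (L2 F) := finite_psl
  have hsimp : IsSimpleGroup (L2 F) := Matrix.ProjectiveSpecialLinearGroup.rank_two_simple
    (by rw [Nat.card_eq_fintype_card]; omega)
  have hcomm := IsSimpleGroup.comm_iff_isSolvable.2 hsol
  let _ : CommGroup (L2 F) := { (inferInstance : Group (L2 F)) with mul_comm := hcomm }
  have hP : (Nat.card (L2 F)).Prime := IsSimpleGroup.prime_card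
  have hcard := card_psl F
  have hg : Nat.gcd 2 (Fintype.card F - 1) ≤ 2 := Nat.gcd_le_left _ (by norm_num)
  set q := Fintype.card F with hq
  have hm : q ^ 2 - 1 = (q - 1) * (q + 1) := by
    have := Nat.sq_sub_sq q 1
    rw [one_pow] at this
    rw [this, mul_comm]
  rw [hm] at hcard
  rcases (Nat.Prime.dvd_mul hP).1 (Dvd.intro _ hcard : Nat.card (L2 F) ∣ q * ((q - 1) * (q + 1))) with h | h
  · have h1 := Nat.le_of_dvd (by omega) h
    have h2 : Nat.card (L2 F) * Nat.gcd 2 (q - 1) ≤ q * 2 := Nat.mul_le_mul h1 hg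
    have h3 : q * (3 * 5) ≤ q * ((q - 1) * (q + 1)) := Nat.mul_le_mul_left q (Nat.mul_le_mul (by omega) (by omega))
    omega
  · rcases (Nat.Prime.dvd_mul hP).1 h with h | h
    · have h1 := Nat.le_of_dvd (by omega) h
      have h2 : Nat.card (L2 F) * Nat.gcd 2 (q - 1) ≤ (q - 1) * 2 := Nat.mul_le_mul h1 hg
      have h3 : 4 * ((q - 1) * 5) ≤ q * ((q - 1) * (q + 1)) := Nat.mul_le_mul h4 (Nat.mul_le_mul_left _ (by omega))
      omega
    · have h1 := Nat.le_of_dvd (by omega) h
      have h2 : Nat.card (L2 F) * Nat.gcd 2 (q - 1) ≤ (q + 1) * 2 := Nat.mul_le_mul h1 hg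
      have h3 : 4 * (3 * (q + 1)) ≤ q * ((q - 1) * (q + 1)) := Nat.mul_le_mul h4 (Nat.mul_le_mul_right _ (by omega))
      omega

/-- **Subgroups of `PSL(2,F)`, three primes.** -/
theorem sub_three (heven : Even (Fintype.card F)) (h4 : 4 ≤ Fintype.card F) (hm1 : TwoP (Fintype.card F - 1))
    (hp1 : TwoP (Fintype.card F + 1)) (T : Subgroup (L2 F)) (hT : T ≠ ⊤) :
    ThreeP T.index ∨ (T.index = Fintype.card F + 1 ∧ Nat.card T = Fintype.card F * (Fintype.card F - 1) ∧
      ¬ IsMulCommutative T) := by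
  have hfin : Finite (L2 F) := finite_psl
  have hfinS : Finite (Subgroup (L2 F)) := inferInstance
  obtain ⟨M, hM, hTM⟩ := (eq_top_or_exists_le_coatom T).resolve_left hT
  rcases max_even heven h4 M hM with ⟨h1, h2⟩ | ⟨-, h1⟩
  · by_cases hTM' : T = M
    · right
      subst hTM'
      refine ⟨h1, h2, fun hc => ?_⟩
      have := S0556.result T hM
      exact not_solvable h4 ⟨⟨3, this⟩⟩
    · left
      have h3 : T.relIndex M ≠ 1 := fun h => hTM' (le_antisymm hTM (Subgroup.relIndex_eq_one.1 h))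
      have h4' : T.relIndex M * M.index = T.index := Subgroup.relIndex_mul_index hTM
      obtain ⟨r, hr, hrd⟩ := Nat.exists_prime_and_dvd h3
      obtain ⟨a, b, ha, hb, hab, had, hbd⟩ := hp1
      have hrM : r ∣ Fintype.card F * (Fintype.card F - 1) := by
        rw [← h2]
        exact hrd.trans (Subgroup.relIndex_dvd_card T M)
      have hcop : Nat.Coprime (Fintype.card F * (Fintype.card F - 1)) (Fintype.card F + 1) :=
        Nat.Coprime.mul_left (coprime_succ _) (coprime_pred_succ (by omega) heven)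
      have key : ∀ c, c.Prime → c ∣ Fintype.card F + 1 → r ≠ c := by
        rintro c hc hcd rfl
        have := Nat.dvd_gcd hrM hcd
        rw [Nat.coprime_iff_gcd_eq_one.1 hcop] at this
        exact hc.one_lt.ne' (Nat.dvd_one.1 this)
      rw [h1] at h4'
      exact ⟨r, a, b, hr, ha, hb, key a ha had, key b hb hbd, hab, h4' ▸ hrd.mul_right _,
        h4' ▸ had.mul_left _, h4' ▸ hbd.mul_left _⟩
  · exact Or.inl ((h1 hm1 hp1).of_dvd (Subgroup.index_dvd_of_le hTM))

end psl

end Cfsg.Agent.H714.Tri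
end

-- part: H714/Tri/Cen
section
/-!
# Central extensions of `PSL(2,F)`, `|F| > 4` even, split

* `split_central` : `commutator Q ⊓ ker π = ⊥`, `commutator Q ⊔ ker π = ⊤`;
* `exists_lin_of_split` : linear characters of the kernel extend.
-/

set_option autoImplicit false

namespace Cfsg.Agent.H714.Tri

open Subgroup
open scoped commutatorElement

universe u v

section frame

variable {F : Type} [Field F] [Fintype F] (h4 : 4 ≤ Fintype.card F)

include h4 in
theorem simple_psl : IsSimpleGroup (Psl F) :=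
  Matrix.ProjectiveSpecialLinearGroup.rank_two_simple (by rw [Nat.card_eq_fintype_card]; omega)

variable {S : Type v} [Group S] (e : S ≃* Psl F)

include h4 e in
theorem simple_of_equiv : IsSimpleGroup S := by
  have := simple_psl h4
  exact e.isSimpleGroup

include h4 e in
theorem not_comm_of_equiv : ¬ ∀ a b : S, a * b = b * a := by
  intro h
  apply not_solvable (F := F) h4
  have hcomm : ∀ a b : Psl F, a * b = b * a := by
    intro a b
    obtain ⟨x, rfl⟩ := e.surjective a
    obtain ⟨y, rfl⟩ := e.surjective b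
    rw [← map_mul, h, map_mul]
  let _ : CommGroup (Psl F) := { (inferInstance : Group (Psl F)) with mul_comm := hcomm }
  infer_instance

include h4 e in
theorem perfect_of_equiv : commutator S = ⊤ := by
  have := simple_of_equiv h4 e
  have hn : (commutator S).Normal := inferInstance
  rcases hn.eq_bot_or_eq_top with h | h
  · exfalso
    apply not_comm_of_equiv h4 e
    intro a b
    have h1 : ⁅a, b⁆ ∈ commutator S := Subgroup.commutator_mem_commutator (mem_top a) (mem_top b)
    rw [h, mem_bot, commutatorElement_eq_one_iff_mul_comm] at h1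
    exact h1
  · exact h

include h4 e in
theorem center_of_equiv : center S = ⊥ := by
  have := simple_of_equiv h4 e
  have hn : (center S).Normal := inferInstance
  rcases hn.eq_bot_or_eq_top with h | h
  · exact h
  · exfalso
    apply not_comm_of_equiv h4 e
    intro a b
    have h1 : a ∈ center S := h ▸ mem_top a
    exact (Subgroup.mem_center_iff.1 h1 b).symm

end frame

section split

variable {F : Type} [Field F] [Fintype F] (heven : Even (Fintype.card F)) (h4 : 4 < Fintype.card F)
  {Q : Type u} [Group Q] {S : Type v} [Group S] (π : Q →* S) (hs : Function.Surjective π)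
  (hc : π.ker ≤ center Q) (e : S ≃* Psl F)

include h4 hs e in
theorem sup_ker_eq_top : commutator Q ⊔ π.ker = ⊤ := by
  have h1 : (commutator Q).map π = ⊤ := by
    rw [commutator_def, Subgroup.map_commutator, Subgroup.map_top_of_surjective π hs, ← commutator_def,
      perfect_of_equiv h4.le e]
  have h2 := Subgroup.comap_map_eq π (commutator Q)
  rw [h1, Subgroup.comap_top] at h2
  exact h2.symm

include h4 hs hc e in
theorem perfect_commutator : ⁅commutator Q, commutator Q⁆ = commutator Q := by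
  apply le_antisymm (Subgroup.commutator_le_right _ _)
  have hdec : ∀ x : Q, ∃ a ∈ commutator Q, ∃ z ∈ π.ker, a * z = x := by
    intro x
    have hx : x ∈ commutator Q ⊔ π.ker := (sup_ker_eq_top h4 π hs e) ▸ mem_top x
    exact Subgroup.mem_sup_of_normal_left.1 hx
  conv_lhs => rw [_root_.commutator_def]
  rw [Subgroup.commutator_le]
  intro x _ y _
  obtain ⟨a, ha, z, hz, rfl⟩ := hdec x
  obtain ⟨b, hb, w, hw, rfl⟩ := hdec y
  have hz' := Subgroup.mem_center_iff.1 (hc hz)
  have hw' := Subgroup.mem_center_iff.1 (hc hw)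
  have h1 : ⁅a * z, b * w⁆ = ⁅a, b⁆ := by
    rw [commutatorElement_def, commutatorElement_def, mul_inv_rev, mul_inv_rev]
    calc a * z * (b * w) * (z⁻¹ * a⁻¹) * (w⁻¹ * b⁻¹)
        = a * (z * b) * w * z⁻¹ * a⁻¹ * w⁻¹ * b⁻¹ := by simp only [mul_assoc]
      _ = a * (b * z) * w * z⁻¹ * a⁻¹ * w⁻¹ * b⁻¹ := by rw [hz' b]
      _ = a * b * (z * w) * z⁻¹ * a⁻¹ * w⁻¹ * b⁻¹ := by simp only [mul_assoc]
      _ = a * b * (w * z) * z⁻¹ * a⁻¹ * w⁻¹ * b⁻¹ := by rw [hz' w]
      _ = a * b * (w * a⁻¹) * w⁻¹ * b⁻¹ := by simp only [mul_assoc, mul_inv_cancel_left]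
      _ = a * b * (a⁻¹ * w) * w⁻¹ * b⁻¹ := by rw [hw' a⁻¹]
      _ = a * b * a⁻¹ * b⁻¹ := by simp only [mul_assoc, mul_inv_cancel_left]
  rw [h1]
  exact Subgroup.commutator_mem_commutator ha hb

variable [Finite Q]

include heven h4 hs hc e in
/-- Central extensions of `PSL(2,F)` split for `|F| > 4` even. -/
theorem split_central : commutator Q ⊓ π.ker = ⊥ := by
  have hsup := sup_ker_eq_top h4 π hs e
  set L := commutator Q with hL
  have hperf : commutator L = ⊤ := by
    have h1 := perfect_commutator h4 π hs hc e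
    rw [← hL] at h1
    rw [eq_top_iff, ← Subgroup.map_subtype_le_map_subtype, Subgroup.map_subtype_commutator, h1]
    exact Subgroup.map_subtype_le _
  let f : L →* S := π.comp L.subtype
  have hfs : Function.Surjective f := by
    intro s
    obtain ⟨x, rfl⟩ := hs s
    have hx : x ∈ L ⊔ π.ker := hsup ▸ mem_top x
    obtain ⟨a, ha, z, hz, rfl⟩ := Subgroup.mem_sup_of_normal_left.1 hx
    refine ⟨⟨a, ha⟩, ?_⟩
    show π a = π (a * z)
    rw [map_mul, MonoidHom.mem_ker.1 hz, mul_one]
  have hfk : f.ker = center L := by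
    apply le_antisymm
    · intro x hx
      rw [Subgroup.mem_center_iff]
      intro y
      apply Subtype.ext
      exact Subgroup.mem_center_iff.1 (hc (show (x : Q) ∈ π.ker from hx)) y
    · intro x hx
      have h1 : f x ∈ center S := by
        rw [Subgroup.mem_center_iff]
        intro s
        obtain ⟨y, rfl⟩ := hfs s
        rw [← map_mul, ← map_mul, Subgroup.mem_center_iff.1 hx y]
      rw [center_of_equiv h4.le e, mem_bot] at h1
      exact h1
  have hmul : Cfsg.HasCyclicSchurMultiplier (Psl F) 1 := by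
    have h := S2086.result (F := F) (q := Fintype.card F) rfl 2 le_rfl (fun _ => h4.le) (by
      simp only [Set.mem_insert_iff, Set.mem_singleton_iff, Prod.mk.injEq]
      obtain ⟨k, hk⟩ := heven
      omega)
    have h1 : Nat.gcd 2 (Fintype.card F - 1) = 1 := by
      rw [← Nat.coprime_iff_gcd_eq_one, Nat.coprime_two_left]
      obtain ⟨k, hk⟩ := heven
      exact ⟨k - 1, by omega⟩
    rwa [h1] at h
  have hZ := H417.DegQuasi.center_eq_bot_of_multiplier hmul hperf
    (((QuotientGroup.quotientMulEquivOfEq hfk.symm).trans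
      (QuotientGroup.quotientKerEquivOfSurjective f hfs)).trans e)
  rw [eq_bot_iff]
  rintro x ⟨hx1, hx2⟩
  have h1 : (⟨x, hx1⟩ : L) ∈ center L := by
    rw [← hfk]
    exact hx2
  rw [hZ, mem_bot] at h1
  exact congrArg Subtype.val h1

include heven h4 hs hc e in
/-- Linear characters of the kernel extend. -/
theorem exists_lin_of_split {A : Type*} [CommGroup A] (l : π.ker →* A) :
    ∃ lam : Q →* A, ∀ z : π.ker, lam z = l z := by
  have h1 := split_central heven h4 π hs hc e
  have h2 := sup_ker_eq_top h4 π hs e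
  let j : π.ker →* Q ⧸ commutator Q := (QuotientGroup.mk' (commutator Q)).comp π.ker.subtype
  have hj : Function.Bijective j := by
    constructor
    · rw [injective_iff_map_eq_one]
      intro z hz
      have h3 : (z : Q) ∈ commutator Q := (QuotientGroup.eq_one_iff _).1 hz
      have h4 : (z : Q) ∈ commutator Q ⊓ π.ker := ⟨h3, z.2⟩
      rw [h1, mem_bot] at h4
      exact Subtype.ext h4
    · intro y
      obtain ⟨x, rfl⟩ := QuotientGroup.mk_surjective y
      have hx : x ∈ commutator Q ⊔ π.ker := h2 ▸ mem_top x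
      obtain ⟨a, ha, z, hz, rfl⟩ := Subgroup.mem_sup_of_normal_left.1 hx
      refine ⟨⟨z, hz⟩, ?_⟩
      show (z : Q ⧸ commutator Q) = ((a * z : Q) : Q ⧸ commutator Q)
      rw [QuotientGroup.mk_mul, (QuotientGroup.eq_one_iff a).2 ha, one_mul]
  let E : π.ker ≃* Q ⧸ commutator Q := MulEquiv.ofBijective j hj
  refine ⟨(l.comp E.symm.toMonoidHom).comp (QuotientGroup.mk' (commutator Q)), fun z => ?_⟩
  show l (E.symm (QuotientGroup.mk' (commutator Q) z)) = l z
  congr 1
  exact E.symm_apply_apply z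

end split

end Cfsg.Agent.H714.Tri
end
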