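import Cfsg.Agent.H714.Tri.Cen
import Cfsg.Agent.H730.Hit.Count_m3
import Cfsg.Agent.H988.DG.Out
import Cfsg.Agent.H464.PslDeg
import Cfsg.Agent.H714.Tri.Out
import Cfsg.Agent.H671.Link
import Cfsg.Agent.H672.Lin
import Cfsg.Agent.S0188
import Cfsg.Agent.S0243
import Cfsg.Agent.S0252
import Cfsg.Agent.S0253
import Cfsg.Agent.S4812
import Cfsg.Agent.H681.DegBasic
import Cfsg.Agent.H671.Frame
import Cfsg.Agent.FastGrp
import Cfsg.Agent.Prune
set_option linter.all false
prune_inst 0x7f00000000000000000000000000000000000000000000000000000000000000000000000000000000000000000000000000000000000000000000000000000000000000000000000000000000000000003fffffffffffffffffffffffffffbeffbdffffffff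
open scoped Cfsg.Agent.FastGrp

-- part: H714/Tri/Three
section
/-!
# Characters over `θ` when the quotient is `PSL(2,F)`, `|F|` even with two primes in `|F| ± 1`

`three_over` : `X ⧸ M ≅ PSL(2,F)`, `θ ∈ Irr(M)`: either some `χ ∈ Irr(X | θ)` has `χ(1) / θ(1)` divisible by three
different primes, or `θ` extends to `X`.
-/

set_option autoImplicit false
set_option linter.unusedSectionVars false

namespace Cfsg.Agent.H714.Tri

open Cfsg
open scoped ComplexConjugate
open Cfsg.Agent.Characters.Core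
open Cfsg.Agent.H595.Count Cfsg.Agent.H595.Central Cfsg.Agent.H595.Triple
open Cfsg.Agent.H525.L2

universe u

section

variable {X : Type u} [Group X] [Finite X] (M : Subgroup X) [hM : M.Normal] {F : Type} [Field F]
  [Fintype F] (heven : Even (Fintype.card F)) (h4 : 4 < Fintype.card F)
  (e : X ⧸ M ≃* Psl F) [Fintype M] (θ : IrrCharacter M)

include heven h4 e in
/-- The invariant case. -/
theorem extends_of_inv (hinv : CInv M (θ : M → ℂ)) :
    ∃ χ : IrrCharacter X, ∀ m : M, (χ : X → ℂ) m = (θ : M → ℂ) m := by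
  obtain ⟨Q, hg, hfin, π, l, hs, hc, hl, H⟩ := exists_red M θ hinv
  obtain ⟨lam, hlam⟩ := exists_lin_of_split heven h4 π hs hc e l
  obtain ⟨χ0, hχ0⟩ := H (homIrr lam) (over_of_linear hlam)
  refine ⟨χ0, fun n => ?_⟩
  rw [hχ0 n, homIrr_apply, map_one, Units.val_one, one_mul]

include heven h4 e in
/-- The case of a proper inertia group. -/
theorem three_of_proper (hm1 : TwoP (Fintype.card F - 1)) (hp1 : TwoP (Fintype.card F + 1))
    (hT1 : Cfsg.Agent.H672.inertia M (θ : M → ℂ) ≠ ⊤) :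
    ∃ χ : IrrCharacter X, classInner (fun m : M => (χ : X → ℂ) m) (θ : M → ℂ) ≠ 0 ∧
      ∃ d : ℕ, charDegree (χ : X → ℂ) = d * charDegree (θ : M → ℂ) ∧ ThreeP d := by
  classical
  have := Fintype.ofFinite X
  set T := Cfsg.Agent.H672.inertia M (θ : M → ℂ) with hTdef
  have := Fintype.ofFinite T
  have hT : ∀ g : X, g ∈ T ↔ ∀ n : M, (θ : M → ℂ) ⟨g * n * g⁻¹, hM.conj_mem (n : X) n.2 g⟩ =
      (θ : M → ℂ) n := fun g => Cfsg.Agent.H672.mem_inertia_iff
  have hMT : M ≤ T := Cfsg.Agent.H672.le_inertia (isIrr_isClassFunction θ.2)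
  let N : Subgroup T := M.subgroupOf T
  let eN : N ≃* M := Subgroup.subgroupOfEquivOfLe hMT
  let θ' : IrrCharacter N := ⟨(θ : M → ℂ) ∘ eN, isIrr_comp eN.toMonoidHom eN.surjective θ.2⟩
  have hinv : CInv N (θ' : N → ℂ) := by
    intro x n
    exact (hT x).1 x.2 (eN n)
  obtain ⟨Q, hg, hfin, π, l, hs, hc, hl, H⟩ := exists_red N θ' hinv
  -- the degrees
  have hdeg : ∀ β : IrrCharacter Q, Over π l (β : Q → ℂ) →
      ∃ χ : IrrCharacter X, classInner (fun m : M => (χ : X → ℂ) m) (θ : M → ℂ) ≠ 0 ∧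
        charDegree (χ : X → ℂ) = (T.index * charDegree (β : Q → ℂ)) * charDegree (θ : M → ℂ) := by
    intro β hβ
    obtain ⟨ψ, hψ⟩ := H β hβ
    have hψ' : ∀ m : M, (ψ : T → ℂ) ⟨m, hMT m.2⟩ =
        (charDegree (β : Q → ℂ) : ℂ) * (θ : M → ℂ) m := by
      intro m
      have := hψ ⟨⟨m, hMT m.2⟩, m.2⟩
      rw [(deg_spec β.2).1] at this
      exact this
    obtain ⟨h1, h2, h3⟩ := over_ind M θ.2 T hT hMT ψ.2 (deg_spec β.2).2.ne' hψ'
    refine ⟨⟨_, h1⟩, h3, ?_⟩
    have h4 := hψ' 1
    have h5 : (⟨((1 : M) : X), hMT (1 : M).2⟩ : T) = 1 := rfl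
    rw [h5, (deg_spec θ.2).1] at h4
    rw [h4, (deg_spec h1).1] at h2
    have h6 : charDegree (indFun T (ψ : T → ℂ)) =
        T.index * (charDegree (β : Q → ℂ) * charDegree (θ : M → ℂ)) := by exact_mod_cast h2
    rw [mul_assoc]
    exact h6
  -- the image in the quotient
  let ι : T ⧸ N →* X ⧸ M := QuotientGroup.map N M T.subtype (fun x hx => hx)
  have hι : Function.Injective ι := by
    rw [injective_iff_map_eq_one]
    intro y hy
    obtain ⟨t, rfl⟩ := QuotientGroup.mk_surjective y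
    have h1 : ((t : X) : X ⧸ M) = 1 := hy
    have h2 : (t : X) ∈ M := (QuotientGroup.eq_one_iff (t : X)).1 h1
    exact (QuotientGroup.eq_one_iff t).2 h2
  have hHi : ι.range.index = T.index := by
    have h1 : ι.range.comap (QuotientGroup.mk' M) = T := by
      ext x
      constructor
      · rintro ⟨y, hy⟩
        obtain ⟨t, rfl⟩ := QuotientGroup.mk_surjective y
        have h2 : ((t : X) : X ⧸ M) = (x : X ⧸ M) := hy
        have h3 := QuotientGroup.eq.1 h2
        have h4 := T.mul_mem t.2 (hMT h3)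
        rwa [mul_inv_cancel_left] at h4
      · intro hx
        exact ⟨((⟨x, hx⟩ : T) : T ⧸ N), rfl⟩
    rw [← Subgroup.index_comap_of_surjective ι.range (QuotientGroup.mk'_surjective M), h1]
  let κ : T ⧸ N →* Psl F := e.toMonoidHom.comp ι
  have hκ : Function.Injective κ := e.injective.comp hι
  have hκi : κ.range.index = T.index := by
    have h1 : κ.range = ι.range.map e.toMonoidHom := by
      rw [← MonoidHom.range_comp]
    rw [h1]
    have h2 := Subgroup.index_map_equiv ι.range e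
    rw [← hHi, ← h2]
    rfl
  have hTi : T.index ≠ 1 := fun h => hT1 (Subgroup.index_eq_one.1 h)
  have hκ1 : κ.range ≠ ⊤ := by
    intro h
    rw [h, Subgroup.index_top] at hκi
    exact hTi hκi.symm
  rcases sub_three heven h4.le hm1 hp1 κ.range hκ1 with h3 | ⟨h5, h6, h7⟩
  · -- three primes in the index
    rw [hκi] at h3
    obtain ⟨β, hβ⟩ := exists_over l hs hc
    obtain ⟨χ, hχ, hχd⟩ := hdeg β hβ
    exact ⟨χ, hχ, _, hχd, h3.of_dvd (Dvd.intro _ rfl)⟩
  · rw [hκi] at h5
    -- a character of degree `≠ 1`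
    obtain ⟨β, hβ, hβ1⟩ : ∃ β : IrrCharacter Q, Over π l (β : Q → ℂ) ∧ charDegree (β : Q → ℂ) ≠ 1 := by
      by_contra hcon
      push Not at hcon
      obtain ⟨β0, hβ0⟩ := exists_over l hs hc
      have hdeg0 := hcon β0 hβ0
      obtain ⟨lam, hlam⟩ := exists_linear hc β0.2 hβ0 (deg_spec β0.2).1 β0.2 hβ0 (deg_spec β0.2).1
        (by rw [hdeg0]; exact Nat.coprime_one_left 1)
      have hlin : ∀ η : IrrCharacter (T ⧸ N), (η : T ⧸ N → ℂ) 1 = 1 := by
        intro η
        have hirr := Cfsg.Agent.CharactersDeep.ExtUnique.isIrr_mul_hom (isIrr_comp π hs η.2) lam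
        have ho : Over π l (fun g => ((η : T ⧸ N → ℂ) ∘ π) g * lam g) := by
          intro g z
          have h1 : π (g * z) = π g := by rw [map_mul, (MonoidHom.mem_ker.1 z.2), mul_one]
          show (η : T ⧸ N → ℂ) (π (g * z)) * lam (g * z) = (η : T ⧸ N → ℂ) (π g) * lam g * l z
          rw [h1, map_mul, hlam, Units.val_mul, mul_assoc]
        have hb := hcon ⟨_, hirr⟩ ho
        have h1 := (deg_spec hirr).1
        have hb' : charDegree (fun g => ((η : T ⧸ N → ℂ) ∘ π) g * (lam g : ℂ)) = 1 := hb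
        rw [hb', Nat.cast_one] at h1
        have h2 : ((η : T ⧸ N → ℂ) ∘ π) 1 * (lam 1 : ℂ) = (η : T ⧸ N → ℂ) 1 := by
          show (η : T ⧸ N → ℂ) (π 1) * (lam 1 : ℂ) = _
          rw [map_one, map_one, Units.val_one, mul_one]
        rw [← h2]
        exact h1
      have hcomm := Cfsg.Agent.S0187.result.2 hlin
      apply h7
      refine ⟨⟨?_⟩⟩
      rintro ⟨_, y, rfl⟩ ⟨_, z, rfl⟩
      apply Subtype.ext
      show κ y * κ z = κ z * κ y
      rw [← map_mul, ← map_mul, hcomm]
    obtain ⟨χ, hχ, hχd⟩ := hdeg β hβ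
    refine ⟨χ, hχ, _, hχd, ?_⟩
    -- `T.index * β(1)` divides `|X : M|`
    have hθ0 : 0 < charDegree (θ : M → ℂ) := (deg_spec θ.2).2
    have hdvd := (H672.charDegree_dvd_of_over M χ.2 θ.2 ((H672.over_subtype_iff M _ _).2 hχ)).2
    rw [hχd, Nat.mul_div_cancel _ hθ0] at hdvd
    have hidx : M.index = (Fintype.card F + 1) * (Fintype.card F * (Fintype.card F - 1)) := by
      rw [Subgroup.index_eq_card]
      exact (frame e).card_even heven
    rw [hidx, h5] at hdvd
    have hfd : charDegree (β : Q → ℂ) ∣ Fintype.card F * (Fintype.card F - 1) :=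
      Nat.dvd_of_mul_dvd_mul_left (by omega) hdvd
    obtain ⟨r, hr, hrd⟩ := Nat.exists_prime_and_dvd hβ1
    obtain ⟨a, b, ha, hb, hab, had, hbd⟩ := hp1
    have hcop : Nat.Coprime (Fintype.card F * (Fintype.card F - 1)) (Fintype.card F + 1) :=
      Nat.Coprime.mul_left (coprime_succ _) (coprime_pred_succ (by omega) heven)
    have key : ∀ c, c.Prime → c ∣ Fintype.card F + 1 → r ≠ c := by
      rintro c hc hcd rfl
      have := Nat.dvd_gcd (hrd.trans hfd) hcd
      rw [Nat.coprime_iff_gcd_eq_one.1 hcop] at this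
      exact hc.one_lt.ne' (Nat.dvd_one.1 this)
    rw [h5]
    exact ⟨r, a, b, hr, ha, hb, key a ha had, key b hb hbd, hab, hrd.mul_left _, had.mul_right _,
      hbd.mul_right _⟩

include heven h4 e in
/-- **Characters over `θ`, three primes.** -/
theorem three_over (hm1 : TwoP (Fintype.card F - 1)) (hp1 : TwoP (Fintype.card F + 1)) :
    (∃ χ : IrrCharacter X, classInner (fun m : M => (χ : X → ℂ) m) (θ : M → ℂ) ≠ 0 ∧
      ∃ d : ℕ, charDegree (χ : X → ℂ) = d * charDegree (θ : M → ℂ) ∧ ThreeP d) ∨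
    (∃ χ : IrrCharacter X, ∀ m : M, (χ : X → ℂ) m = (θ : M → ℂ) m) := by
  by_cases hT : Cfsg.Agent.H672.inertia M (θ : M → ℂ) = ⊤
  · right
    refine extends_of_inv M heven h4 e θ ?_
    intro x n
    have : x ∈ Cfsg.Agent.H672.inertia M (θ : M → ℂ) := by rw [hT]; trivial
    exact Cfsg.Agent.H672.mem_inertia_iff.1 this n
  · exact Or.inl (three_of_proper M heven h4 e θ hm1 hp1 hT)

end

end Cfsg.Agent.H714.Tri
end

-- part: H714/Tri/Main
section
/-!
# Groups with a triangle-free degree graph: five primes in the simple section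

* `outFact` : `H988.DG.OutFact`;
* `struct_five` : `G` non-solvable (given by the frame `T`), `Δ(G)` without triangle, five vertices, all of them dividing
  the order of the simple section: `G = PSL(2, 2 ^ f) × A`, `A` abelian, `2 ^ f ± 1` have exactly two prime divisors each.
-/

set_option autoImplicit false
set_option linter.unusedSectionVars false

namespace Cfsg.Agent.H714.Tri

open Cfsg Subgroup Cfsg.Agent.H33 Cfsg.Agent.H988.DG
open Cfsg.Agent.Characters.Core

universe u

theorem outFact : OutFact.{u} := by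
  intro Γ _ _ S _ F _ _ e hF hC t ht hdvd hnd
  obtain ⟨r, s, hr, hs, hrs, h1, h2, d, hd, h3⟩ := (out S e hF hC ht hdvd).1 hnd
  exact ⟨r, s, hr, hs, hrs, h1, h2, d, hd, by rwa [mul_assoc]⟩

/-- No degree is divisible by three primes. -/
theorem no_three {G : Type u} [Group G] (h3 : (degreeGraph G).CliqueFree 3) {n : ℕ} (hn : H33.IM n G) :
    ¬ ThreeP n := by
  rintro ⟨a, b, c, ha, hb, hc, hab, hac, hbc, h1, h2, h4⟩
  refine not_cliqueFree_of_dvd ha hb hc hab hbc hac (im_mono hn ?_) h3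
  have h5 : Nat.Coprime a b := (Nat.coprime_primes ha hb).2 hab
  have h6 : Nat.Coprime (a * b) c := Nat.Coprime.mul_left ((Nat.coprime_primes ha hc).2 hac) ((Nat.coprime_primes hb hc).2 hbc)
  exact Nat.Coprime.mul_dvd_of_dvd_of_dvd h6 (Nat.Coprime.mul_dvd_of_dvd_of_dvd h5 h1 h2) h4

theorem twoP_of_card {n : ℕ} (h : n.primeFactors.card = 2) : TwoP n := by
  obtain ⟨a, b, hab, h1⟩ := Finset.card_eq_two.1 h
  have ha : a ∈ n.primeFactors := by rw [h1]; simp
  have hb : b ∈ n.primeFactors := by rw [h1]; simp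
  rw [Nat.mem_primeFactors] at ha hb
  exact ⟨a, b, ha.1, hb.1, hab, ha.2.1, hb.2.1⟩

/-- Five primes in `|PSL(2,F)|`. -/
theorem card_five {F : Type} [Field F] [Fintype F] (hF : 4 ≤ Fintype.card F)
    (h3 : (degreeGraph (Matrix.ProjectiveSpecialLinearGroup (Fin 2) F)).CliqueFree 3)
    (h5 : 5 ≤ (Nat.card (Matrix.ProjectiveSpecialLinearGroup (Fin 2) F)).primeFactors.card) :
    Even (Fintype.card F) ∧ (Fintype.card F - 1).primeFactors.card = 2 ∧ (Fintype.card F + 1).primeFactors.card = 2 := by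
  classical
  have htri : ∀ a b c : ℕ, (degreeGraph (Matrix.ProjectiveSpecialLinearGroup (Fin 2) F)).Adj a b →
      (degreeGraph (Matrix.ProjectiveSpecialLinearGroup (Fin 2) F)).Adj b c →
      (degreeGraph (Matrix.ProjectiveSpecialLinearGroup (Fin 2) F)).Adj a c → False := by
    intro a b c h4 h5 h6
    refine h3 {a, b, c} ?_
    rw [SimpleGraph.is3Clique_triple_iff]
    exact ⟨h4, h6, h5⟩
  have hle := Finset.card_le_card (primeFactors_psl_subset (F := F))
  have h1 := card_primeFactors_card (F := F)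
  have hu1 := Finset.card_union_le (Fintype.card F).primeFactors
    ((Fintype.card F - 1).primeFactors ∪ (Fintype.card F + 1).primeFactors)
  have hu2 := Finset.card_union_add_card_inter (Fintype.card F - 1).primeFactors (Fintype.card F + 1).primeFactors
  have hcl : ∀ n : ℕ, (∀ a ∈ n.primeFactors, ∀ b ∈ n.primeFactors, a ≠ b →
      (degreeGraph (Matrix.ProjectiveSpecialLinearGroup (Fin 2) F)).Adj a b) → n.primeFactors.card ≤ 2 := by
    intro n h2
    exact card_le_two (fun a _ b _ c _ _ _ _ h4 h5 h6 => htri a b c h4 h5 h6) h2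
  rcases Nat.even_or_odd (Fintype.card F) with h | h
  · have hchar : CharP F 2 := by
      have h6 : ringChar F = 2 := FiniteField.even_card_iff_char_two.2 (Nat.even_iff.1 h)
      rw [← h6]
      exact ringChar.charP F
    obtain ⟨-, hadj⟩ := S4812.result F (Fintype.card F) rfl hF (Or.inl ⟨MulEquiv.refl _⟩)
    have h4 := hcl (Fintype.card F - 1) (by
      intro a ha b hb hab
      rw [Nat.mem_primeFactors] at ha hb
      exact (hadj a b).2 ⟨hab, ha.1, hb.1, Or.inr ⟨ha.2.1, hb.2.1⟩⟩)
    have h6 := hcl (Fintype.card F + 1) (by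
      intro a ha b hb hab
      rw [Nat.mem_primeFactors] at ha hb
      exact (hadj a b).2 ⟨hab, ha.1, hb.1, Or.inl ⟨ha.2.1, hb.2.1⟩⟩)
    exact ⟨h, by omega, by omega⟩
  · exfalso
    have h2m : (2 : ℕ) ∈ (Fintype.card F - 1).primeFactors ∩ (Fintype.card F + 1).primeFactors := by
      rw [Finset.mem_inter, Nat.mem_primeFactors, Nat.mem_primeFactors]
      rcases h with ⟨k, hk⟩
      exact ⟨⟨Nat.prime_two, by omega, by omega⟩, Nat.prime_two, by omega, by omega⟩
    have hint : 1 ≤ ((Fintype.card F - 1).primeFactors ∩ (Fintype.card F + 1).primeFactors).card :=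
      Finset.card_pos.2 ⟨2, h2m⟩
    by_cases h5' : Fintype.card F = 5
    · have := card_le_three (F := F) (Or.inr (Or.inl h5'))
      omega
    · have h6 : 5 < Fintype.card F := by
        rcases h with ⟨k, hk⟩
        omega
      have hodd : ringChar F ≠ 2 := by
        intro h7
        have := FiniteField.even_card_iff_char_two.1 h7
        rw [Nat.odd_iff] at h
        omega
      have hpr : (ringChar F).Prime := CharP.char_is_prime F _
      have : Fact (ringChar F).Prime := ⟨hpr⟩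
      have : CharP F (ringChar F) := ringChar.charP F
      obtain ⟨-, hadj⟩ := S4774.result F (ringChar F) hodd (Fintype.card F) rfl h6 (Or.inl ⟨MulEquiv.refl _⟩)
      have hsq : Fintype.card F ^ 2 - 1 = (Fintype.card F + 1) * (Fintype.card F - 1) := by
        have := Nat.sq_sub_sq (Fintype.card F) 1
        rwa [one_pow] at this
      have h7 := hcl (Fintype.card F - 1) (by
        intro a ha b hb hab
        rw [Nat.mem_primeFactors] at ha hb
        refine (hadj a b).2 ⟨hab, ha.1, hb.1, ?_, ?_, Or.inr (Or.inr (Or.inr ⟨ha.2.1, hb.2.1⟩))⟩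
        · rw [hsq]; exact ha.2.1.mul_left _
        · rw [hsq]; exact hb.2.1.mul_left _)
      have h8 := hcl (Fintype.card F + 1) (by
        intro a ha b hb hab
        rw [Nat.mem_primeFactors] at ha hb
        refine (hadj a b).2 ⟨hab, ha.1, hb.1, ?_, ?_, Or.inr (Or.inr (Or.inl ⟨ha.2.1, hb.2.1⟩))⟩
        · rw [hsq]; exact ha.2.1.mul_right _
        · rw [hsq]; exact hb.2.1.mul_right _)
      omega

/-- A number `q ± 1` with two primes, multiplied by another prime: three primes for one of the signs. -/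
theorem three_of_prime {q p : ℕ} (hq : 1 ≤ q) (he : Even q) (h1 : TwoP (q - 1)) (h2 : TwoP (q + 1)) (hp : p.Prime) :
    ThreeP (p * (q - 1)) ∨ ThreeP (p * (q + 1)) := by
  have hcop := coprime_pred_succ hq he
  by_cases hp1 : p ∣ q - 1
  · right
    obtain ⟨a, b, ha, hb, hab, had, hbd⟩ := h2
    have key : ∀ c, c.Prime → c ∣ q + 1 → p ≠ c := by
      rintro c hc hcd rfl
      have := Nat.dvd_gcd hp1 hcd
      rw [Nat.coprime_iff_gcd_eq_one.1 hcop] at this
      exact hc.one_lt.ne' (Nat.dvd_one.1 this)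
    exact ⟨p, a, b, hp, ha, hb, key a ha had, key b hb hbd, hab, Dvd.intro _ rfl, had.mul_left _, hbd.mul_left _⟩
  · left
    obtain ⟨a, b, ha, hb, hab, had, hbd⟩ := h1
    have key : ∀ c, c ∣ q - 1 → p ≠ c := by
      rintro c hcd rfl
      exact hp1 hcd
    exact ⟨p, a, b, hp, ha, hb, key a had, key b hbd, hab, Dvd.intro _ rfl, had.mul_left _, hbd.mul_left _⟩

section frame

variable {G : Type u} [Group G] [Finite G] (T : Fr G)

theorem index_Kb : T.Kb.index = T.K.index := by
  have h2 : T.Kb.comap (QuotientGroup.mk' T.R) = T.K := by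
    rw [Subgroup.comap_map_eq, QuotientGroup.ker_mk']
    exact sup_eq_left.2 T.le
  rw [← Subgroup.index_comap_of_surjective T.Kb (QuotientGroup.mk'_surjective T.R), h2]

/-- Degrees over an outer prime, `|F|` even. -/
theorem outer_even (heven : Even (Fintype.card T.F)) (h4 : 4 < Fintype.card T.F) {t : ℕ} (ht : t.Prime)
    (hdvd : t ∣ T.K.index) :
    H33.IM (t * (Fintype.card T.F - 1)) G ∧ H33.IM (t * (Fintype.card T.F + 1)) G := by
  have h1 := (out T.Kb T.e T.hF T.cen ht (by rw [index_Kb]; exact hdvd)).2 heven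
  obtain ⟨⟨d, ⟨χ, rfl⟩, hd⟩, h2⟩ := h1
  obtain ⟨d', ⟨χ', rfl⟩, hd'⟩ := h2 h4
  exact ⟨H33.IM.of_quotient T.R ⟨χ, hd⟩, H33.IM.of_quotient T.R ⟨χ', hd'⟩⟩

variable (h3 : (degreeGraph G).CliqueFree 3) (heven : Even (Fintype.card T.F)) (h4 : 4 < Fintype.card T.F)
  (hm1 : TwoP (Fintype.card T.F - 1)) (hp1 : TwoP (Fintype.card T.F + 1))

include h3 heven h4 hm1 hp1 in
theorem index_K : T.K = ⊤ := by
  rw [← Subgroup.index_eq_one]
  by_contra hne
  obtain ⟨t, ht, htd⟩ := Nat.exists_prime_and_dvd hne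
  obtain ⟨h1, h2⟩ := outer_even T heven h4 ht htd
  rcases three_of_prime (by omega) heven hm1 hp1 ht with h | h
  · exact no_three h3 h1 h
  · exact no_three h3 h2 h

include h3 heven h4 hm1 hp1 in
/-- Characters of the radical are linear and extend. -/
theorem ker_char (θ : IrrCharacter T.f.ker) :
    (θ : T.f.ker → ℂ) 1 = 1 ∧ ∃ χ : IrrCharacter T.K, ∀ m : T.f.ker, (χ : T.K → ℂ) m = (θ : T.f.ker → ℂ) m := by
  classical
  have := Fintype.ofFinite T.f.ker
  have e := QuotientGroup.quotientKerEquivOfSurjective T.f T.f_surj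
  rcases three_over T.f.ker heven h4 e θ hm1 hp1 with ⟨χ, -, d, hd, hd3⟩ | ⟨χ, hχ⟩
  · exfalso
    refine no_three h3 (T.im_of_K (⟨χ, Dvd.intro _ hd.symm⟩ : H33.IM d T.K)) hd3
  · refine ⟨?_, χ, hχ⟩
    obtain ⟨n, hn0, hn⟩ := isIrr_apply_one θ.2
    have hn' : (χ : T.K → ℂ) 1 = n := by
      rw [← hn]
      exact hχ 1
    by_contra hne
    have hn1 : n ≠ 1 := by
      rintro rfl
      exact hne (by rw [hn, Nat.cast_one])
    obtain ⟨p, hp, hpn⟩ := Nat.exists_prime_and_dvd hn1
    have h7 : 7 ≤ Fintype.card T.F := by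
      obtain ⟨a, b, ha, hb, hab, had, hbd⟩ := hm1
      have h5 : a * b ∣ Fintype.card T.F - 1 :=
        Nat.Coprime.mul_dvd_of_dvd_of_dvd ((Nat.coprime_primes ha hb).2 hab) had hbd
      have h6 := Nat.le_of_dvd (by omega) h5
      have ha2 := ha.two_le
      have hb2 := hb.two_le
      have : 6 ≤ a * b := by
        rcases Nat.lt_or_ge a 3 with h | h
        · have : a = 2 := by omega
          subst this
          have : 3 ≤ b := by omega
          omega
        · nlinarith
      omega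
    obtain ⟨hq1, hq2⟩ := H464.PslDeg.psl_degrees (F := T.F) h7
    have hres : IsIrrCharacter T.f.ker (fun k : T.f.ker => (χ : T.K → ℂ) k) := by
      have : (fun k : T.f.ker => (χ : T.K → ℂ) k) = (θ : T.f.ker → ℂ) := funext hχ
      rw [this]
      exact θ.2
    have hdeg : ∀ b ∈ charDegrees (Matrix.ProjectiveSpecialLinearGroup (Fin 2) T.F), H33.IM (p * b) G := by
      intro b hb
      obtain ⟨ψ, hψ⟩ := H681.DegBasic.gallagher T.f T.f_surj T.f.ker (fun k hk => hk) χ.2 hres hn' hb
      refine T.im_of_K ⟨ψ, ?_⟩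
      rw [hψ, mul_comm b n]
      exact Nat.mul_dvd_mul_right hpn b
    rcases three_of_prime (by omega) heven hm1 hp1 hp with h | h
    · exact no_three h3 (hdeg _ hq2) h
    · exact no_three h3 (hdeg _ hq1) h

include h3 heven h4 hm1 hp1 in
theorem ker_comm : ∀ a b : T.f.ker, a * b = b * a :=
  S0187.result.2 fun θ => (ker_char T h3 heven h4 hm1 hp1 θ).1

include h3 heven h4 hm1 hp1 in
theorem ker_central : T.f.ker ≤ center T.K := by
  intro r hr
  rw [Subgroup.mem_center_iff]
  intro k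
  have hmem : k * r * k⁻¹ ∈ T.f.ker := (MonoidHom.normal_ker T.f).conj_mem r hr k
  have h1 : IsConj (⟨k * r * k⁻¹, hmem⟩ : T.f.ker) ⟨r, hr⟩ := by
    refine Characters.GaloisIrr.isConj_of_forall_irr fun θ hθ => ?_
    obtain ⟨-, χ, hχ⟩ := ker_char T h3 heven h4 hm1 hp1 ⟨θ, hθ⟩
    have h2 := hχ ⟨k * r * k⁻¹, hmem⟩
    have h5 := hχ ⟨r, hr⟩
    have h6 : (χ : T.K → ℂ) (k * r * k⁻¹) = (χ : T.K → ℂ) r := isIrr_isClassFunction χ.2 r k
    exact h2.symm.trans (h6.trans h5)
  obtain ⟨c, hc⟩ := isConj_iff.1 h1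
  rw [ker_comm T h3 heven h4 hm1 hp1 c, mul_inv_cancel_right] at hc
  have h2 : k * r * k⁻¹ = r := congrArg Subtype.val hc
  exact (mul_inv_eq_iff_eq_mul.1 h2)

include h3 in
/-- **Structure**: five primes, all of them in the simple section. -/
theorem struct_five (hsub : ∀ p ∈ degreePrimes G, p ∣ Nat.card T.L) (hcard : Set.ncard (degreePrimes G) = 5) :
    ∃ H A : Subgroup G, H.Normal ∧ A.Normal ∧ H ⊓ A = ⊥ ∧ H ⊔ A = ⊤ ∧ IsMulCommutative A ∧
      ∃ (f : ℕ) (F : Type) (_ : Field F) (_ : Fintype F), Fintype.card F = 2 ^ f ∧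
        (2 ^ f - 1).primeFactors.card = 2 ∧ (2 ^ f + 1).primeFactors.card = 2 ∧
        Nonempty (↥H ≃* Matrix.ProjectiveSpecialLinearGroup (Fin 2) F) := by
  classical
  have hL3 : (degreeGraph T.L).CliqueFree 3 := by
    refine SimpleGraph.CliqueFree.anti ?_ h3
    intro p q h
    obtain ⟨h1, h2, h4, h5⟩ := H988.DG.adj_iff.1 h
    exact H988.DG.adj_iff.2 ⟨h1, h2, h4, T.im_of_L h5⟩
  have h5 : 5 ≤ (Nat.card T.L).primeFactors.card := by
    obtain ⟨P, hP⟩ := exists_finset G
    rw [← hP, Set.ncard_coe_finset] at hcard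
    rw [← hcard]
    refine Finset.card_le_card fun p hp => ?_
    have hp' : p ∈ degreePrimes G := by rw [← hP]; exact hp
    rw [Nat.mem_primeFactors]
    exact ⟨hp'.1, hsub p hp', Nat.card_pos.ne'⟩
  obtain ⟨heven, hcm, hcp⟩ := card_five T.hF hL3 h5
  have hm1 := twoP_of_card hcm
  have hp1 := twoP_of_card hcp
  have h4 : 4 < Fintype.card T.F := by
    rcases lt_or_eq_of_le T.hF with h | h
    · exact h
    · exfalso
      exact absurd (h5.trans (card_le_three (F := T.F) (Or.inl h.symm))) (by norm_num)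
  have hK := index_K T h3 heven h4 hm1 hp1
  have hcen := ker_central T h3 heven h4 hm1 hp1
  have hcomm := ker_comm T h3 heven h4 hm1 hp1
  have hinf := split_central heven h4 T.f T.f_surj hcen (MulEquiv.refl T.L)
  have hsup := sup_ker_eq_top h4 T.f T.f_surj (MulEquiv.refl T.L)
  have hHn : ((_root_.commutator T.K).map T.K.subtype).Normal := inferInstance
  have hkermap : T.f.ker.map T.K.subtype = T.R := by
    ext x
    constructor
    · rintro ⟨y, hy, rfl⟩
      exact T.mem_ker.1 hy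
    · intro hx
      exact ⟨⟨x, T.le hx⟩, T.mem_ker.2 hx, rfl⟩
  refine ⟨(_root_.commutator T.K).map T.K.subtype, T.R, hHn, T.hR, ?_, ?_, ?_, ?_⟩
  · rw [← hkermap, ← Subgroup.map_inf_eq _ _ _ T.K.subtype_injective, hinf, Subgroup.map_bot]
  · rw [← hkermap, ← Subgroup.map_sup, hsup, ← MonoidHom.range_eq_map, Subgroup.range_subtype, hK]
  · refine ⟨⟨fun a b => ?_⟩⟩
    have h6 := hcomm (T.kerEquiv.symm a) (T.kerEquiv.symm b)
    rw [← map_mul, ← map_mul] at h6
    exact T.kerEquiv.symm.injective h6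
  · have hchar : CharP T.F 2 := by
      have h6 : ringChar T.F = 2 := FiniteField.even_card_iff_char_two.2 (Nat.even_iff.1 heven)
      rw [← h6]
      exact ringChar.charP T.F
    obtain ⟨f, -, hf⟩ := FiniteField.card T.F 2
    refine ⟨f, T.F, inferInstance, inferInstance, hf, ?_, ?_, ?_⟩
    · rw [← hf]; exact hcm
    · rw [← hf]; exact hcp
    · let g : _root_.commutator T.K →* T.L := T.f.comp (_root_.commutator T.K).subtype
      have hg : Function.Bijective g := by
        constructor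
        · rw [injective_iff_map_eq_one]
          intro x hx
          have h6 : (x : T.K) ∈ _root_.commutator T.K ⊓ T.f.ker := ⟨x.2, hx⟩
          rw [hinf, mem_bot] at h6
          exact Subtype.ext h6
        · intro s
          obtain ⟨x, rfl⟩ := T.f_surj s
          have hx : x ∈ _root_.commutator T.K ⊔ T.f.ker := hsup ▸ mem_top x
          obtain ⟨a, ha, z, hz, rfl⟩ := Subgroup.mem_sup_of_normal_left.1 hx
          refine ⟨⟨a, ha⟩, ?_⟩
          show T.f a = T.f (a * z)
          rw [map_mul, MonoidHom.mem_ker.1 hz, mul_one]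
      exact ⟨((_root_.commutator T.K).equivMapOfInjective T.K.subtype T.K.subtype_injective).symm.trans
        (MulEquiv.ofBijective g hg)⟩

end frame

end Cfsg.Agent.H714.Tri
end

-- part: H677/Pent/Core
section
/-!
# Non-solvable groups with triangle-free degree graph: the direct product case (helper677)

* `radical_trivial` : `L` perfect, `L / N ≅ PSL(2,F)`, `N` solvable and no degree of `L` divisible by two
  primes of `|L / N|`: `N = 1`.
* `step_one` : a prime `p` of `ρ(G)` not dividing `|G / R|` forces `|F| ∈ {4, 5, 8}` and is adjacent to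
  the primes of all degrees of `PSL(2,F)`.
-/

set_option autoImplicit false

namespace Cfsg.Agent.H677.Pent

open Cfsg Cfsg.Agent.H671 Matrix
open Cfsg.Agent.H672 (lf isIrr_lf charDegree_lf over_iff Over charDegree_dvd_of_over coe_charDegree)

universe u

/-- A nontrivial finite solvable group has a nontrivial linear character. -/
theorem exists_lin_ne_one {N : Type u} [Group N] [Finite N] (hs : Group.IsSolvable N)
    (hn : Nontrivial N) : ∃ l : N →* ℂˣ, l ≠ 1 := by
  classical
  have h1 : commutator N < ⊤ := by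
    refine lt_of_le_of_ne le_top ?_
    intro h
    have h2 : ∀ n, derivedSeries N n = ⊤ := by
      intro n
      induction n with
      | zero => rfl
      | succ n ih => rw [derivedSeries_succ, ih]; exact h
    obtain ⟨n, hn'⟩ := (Group.isSolvable_def N).1 hs
    rw [h2 n] at hn'
    exact absurd hn' top_ne_bot
  obtain ⟨x, -, hx⟩ := SetLike.exists_of_lt h1
  have hx' : (Abelianization.of x : Abelianization N) ≠ 1 := by
    intro h
    apply hx
    have h3 : x ∈ (Abelianization.of (G := N)).ker := h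
    rwa [Abelianization.ker_of] at h3
  obtain ⟨φ, hφ⟩ := CommGroup.exists_apply_ne_one_of_hasEnoughRootsOfUnity (Abelianization N) ℂ hx'
  refine ⟨φ.comp Abelianization.of, fun h => hφ ?_⟩
  exact DFunLike.congr_fun h x

theorem radical_trivial {L : Type u} [Group L] [Finite L] (N : Subgroup L) [N.Normal] {F : Type}
    [Field F] [Fintype F] (hF : 4 ≤ Fintype.card F)
    (e : L ⧸ N ≃* Matrix.ProjectiveSpecialLinearGroup (Fin 2) F) (hperf : commutator L = ⊤)
    (hsolv : Group.IsSolvable N)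
    (hno : ∀ p q, p.Prime → q.Prime → p ≠ q → p ∣ N.index → q ∣ N.index →
      ∀ d ∈ charDegrees L, ¬ p * q ∣ d) : N = ⊥ := by
  classical
  by_contra hne
  have := Fintype.ofFinite N
  have hnt : Nontrivial N := (Subgroup.nontrivial_iff_ne_bot N).2 hne
  obtain ⟨l, hl⟩ := exists_lin_ne_one hsolv hnt
  rcases H525.L2.l2_over N hF e ⟨lf l, isIrr_lf l⟩ with ⟨χ, h1, p, q, d, hp, hq, hpq, h2, h3⟩ | ⟨-, χ, hχ⟩
  · have h4 : charDegree (χ : L → ℂ) = d := by
      rw [h2]
      show d * charDegree (lf l) = d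
      rw [charDegree_lf, mul_one]
    have h5 : d ∣ N.index := by
      have h6 : Over N.subtype (χ : L → ℂ) (lf l) := by
        rw [over_iff]
        exact h1
      have h7 := (charDegree_dvd_of_over N χ.2 (isIrr_lf l) h6).2
      rwa [charDegree_lf, Nat.div_one, h4] at h7
    exact hno p q hp hq hpq (((Dvd.intro _ rfl).trans h3).trans h5) (((Dvd.intro_left _ rfl).trans h3).trans h5)
      _ ⟨χ, rfl⟩ (h4 ▸ h3)
  · have h4 : charDegree (χ : L → ℂ) = 1 := by
      have h5 := hχ 1
      have h6 : ((charDegree (χ : L → ℂ) : ℕ) : ℂ) = 1 := by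
        rw [coe_charDegree χ.2]
        have h7 : (χ : L → ℂ) ((1 : N) : L) = lf l 1 := h5
        rw [OneMemClass.coe_one] at h7
        rw [h7, H672.lf_apply, map_one, Units.val_one]
      exact_mod_cast h6
    obtain ⟨m, hm⟩ := H672.exists_hom_of_degree_one χ.2 h4
    have hm1 : m = 1 := by
      have h5 : m.ker = ⊤ := by
        rw [eq_top_iff, ← hperf]
        exact Abelianization.commutator_subset_ker m
      ext x
      have h6 : x ∈ m.ker := by rw [h5]; trivial
      rw [MonoidHom.mem_ker.1 h6]; rfl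
    apply hl
    ext n
    have h5 := hχ n
    rw [hm, hm1] at h5
    exact h5.symm

end Cfsg.Agent.H677.Pent
end

-- part: H677/Pent/Step
section
/-!
# Non-solvable groups with triangle-free degree graph: primes outside `π(S)` (helper677)
-/

set_option autoImplicit false

namespace Cfsg.Agent.H677.Pent

open Cfsg Cfsg.Agent.H671 Matrix
open Cfsg.Agent.H681.DegBasic (mem_charDegrees charDegrees_comp)
open Cfsg.Agent.H672 (lf isIrr_lf charDegree_lf over_iff Over charDegree_dvd_of_over coe_charDegree)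

universe u

theorem no_tri {G : Type u} [Group G] (htri : (degreeGraph G).CliqueFree 3) {p q r : ℕ}
    (hp : p.Prime) (hq : q.Prime) (hr : r.Prime) (hpq : p ≠ q) (hpr : p ≠ r) (hqr : q ≠ r) {a b c : ℕ}
    (ha : a ∈ charDegrees G) (h1 : p * q ∣ a) (hb : b ∈ charDegrees G) (h2 : p * r ∣ b)
    (hc : c ∈ charDegrees G) (h3 : q * r ∣ c) : False :=
  htri {p, q, r} (SimpleGraph.is3Clique_triple_iff.2
    ⟨⟨hpq, hp, hq, a, ha, h1⟩, ⟨hpr, hp, hr, b, hb, h2⟩, ⟨hqr, hq, hr, c, hc, h3⟩⟩)

theorem exists_quotEquiv {G : Type u} [Group G] (R K : Subgroup G) [R.Normal] :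
    Nonempty (K ⧸ R.subgroupOf K ≃* K.map (QuotientGroup.mk' R)) := by
  let f := (QuotientGroup.mk' R).subgroupMap K
  have hf : Function.Surjective f := MonoidHom.subgroupMap_surjective _ _
  have hk : f.ker = R.subgroupOf K := by
    ext x
    rw [MonoidHom.mem_ker, Subgroup.mem_subgroupOf]
    constructor
    · intro h
      have h1 : (QuotientGroup.mk' R) (x : G) = 1 := congrArg Subtype.val h
      exact (QuotientGroup.eq_one_iff _).1 h1
    · intro h
      exact Subtype.ext ((QuotientGroup.eq_one_iff _).2 h)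
  exact ⟨(QuotientGroup.quotientMulEquivOfEq hk.symm).trans (QuotientGroup.quotientKerEquivOfSurjective f hf)⟩

/-- A prime dividing `a` and not dividing the ratio `a / b` divides `b`. -/
theorem dvd_of_ratio {p a b n : ℕ} (hp : p.Prime) (hba : b ∣ a) (hr : a / b ∣ n) (hn : ¬ p ∣ n)
    (h : p ∣ a) : p ∣ b := by
  rw [← Nat.div_mul_cancel hba] at h
  exact (hp.dvd_mul.1 h).resolve_left fun h' => hn (h'.trans hr)

theorem step_one {G : Type u} [Group G] [Finite G] (R K : Subgroup G) [hR : R.Normal] [hK : K.Normal]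
    {F : Type} [Field F] [Fintype F] (hF : 4 ≤ Fintype.card F)
    (e : K.map (QuotientGroup.mk' R) ≃* Matrix.ProjectiveSpecialLinearGroup (Fin 2) F)
    (htri : (degreeGraph G).CliqueFree 3) {p : ℕ} (hp : p ∈ degreePrimes G)
    (hpS : ¬ p ∣ Nat.card (Matrix.ProjectiveSpecialLinearGroup (Fin 2) F)) (hpK : ¬ p ∣ K.index) :
    (Fintype.card F = 4 ∨ Fintype.card F = 5 ∨ Fintype.card F = 8) ∧
      ∀ d ∈ charDegrees (Matrix.ProjectiveSpecialLinearGroup (Fin 2) F), ∃ n ∈ charDegrees G, p * d ∣ n := by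
  classical
  obtain ⟨hpp, _, ⟨χ, rfl⟩, hpχ⟩ := hp
  obtain ⟨θ0, hθ0, ho0⟩ := H672.exists_under (f := K.subtype) χ.2
  obtain ⟨d1, d2⟩ := charDegree_dvd_of_over K χ.2 hθ0 ho0
  have hp0 : p ∣ charDegree θ0 := dvd_of_ratio hpp d1 d2 hpK hpχ
  obtain ⟨f0⟩ := exists_quotEquiv R K
  have e' := f0.trans e
  have hidx : (R.subgroupOf K).index = Nat.card (Matrix.ProjectiveSpecialLinearGroup (Fin 2) F) := by
    rw [Subgroup.index_eq_card]
    exact Nat.card_congr e'.toEquiv
  obtain ⟨θ, hθ, ho⟩ := H672.exists_under (f := (R.subgroupOf K).subtype) hθ0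
  obtain ⟨d3, d4⟩ := charDegree_dvd_of_over (R.subgroupOf K) hθ0 hθ ho
  have hpθ : p ∣ charDegree θ := dvd_of_ratio hpp d3 d4 (by rwa [hidx]) hp0
  have := Fintype.ofFinite (R.subgroupOf K)
  rcases H525.L2.l2_over (R.subgroupOf K) hF e' ⟨θ, hθ⟩ with ⟨ψ, h1, r, s, d, hr, hs, hrs, h2, h3⟩ | ⟨h1, ψ, hψ⟩
  · exfalso
    have h2' : charDegree (ψ : K → ℂ) = d * charDegree θ := h2
    have hd0 : 0 < charDegree θ := H672.charDegree_pos hθ
    have h5 : d ∣ (R.subgroupOf K).index := by
      have h6 : Over (R.subgroupOf K).subtype (ψ : K → ℂ) θ := by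
        rw [over_iff]
        exact h1
      have h7 := (charDegree_dvd_of_over (R.subgroupOf K) ψ.2 hθ h6).2
      rwa [h2', Nat.mul_div_cancel _ hd0] at h7
    rw [hidx] at h5
    have hrd : r ∣ d := (Dvd.intro _ rfl).trans h3
    have hsd : s ∣ d := (Dvd.intro_left _ rfl).trans h3
    have hpr : p ≠ r := by rintro rfl; exact hpS (hrd.trans h5)
    have hps : p ≠ s := by rintro rfl; exact hpS (hsd.trans h5)
    obtain ⟨n, hn, hdn⟩ := Link.overN K (d := charDegree (ψ : K → ℂ)) ⟨ψ, rfl⟩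
    have h8 : r * s * p ∣ n := by
      refine dvd_trans ?_ hdn
      rw [h2']
      exact mul_dvd_mul h3 hpθ
    refine no_tri htri hpp hr hs hpr hps hrs hn ?_ hn ?_ hn ?_
    · exact dvd_trans ⟨s, by ring⟩ h8
    · exact dvd_trans ⟨r, by ring⟩ h8
    · exact dvd_trans ⟨p, by ring⟩ h8
  · refine ⟨h1, fun d hd => ?_⟩
    have h2 : charDegree (ψ : K → ℂ) = charDegree θ := by
      have h5 := hψ 1
      have h6 : ((charDegree (ψ : K → ℂ) : ℕ) : ℂ) = (charDegree θ : ℕ) := by
        rw [coe_charDegree ψ.2, coe_charDegree hθ]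
        have h7 : (ψ : K → ℂ) ((1 : R.subgroupOf K) : K) = θ 1 := h5
        rwa [OneMemClass.coe_one] at h7
      exact_mod_cast h6
    have h3 := H681.DegBasic.gallagher (e'.toMonoidHom.comp (QuotientGroup.mk' (R.subgroupOf K)))
      (e'.surjective.comp (QuotientGroup.mk'_surjective _)) (R.subgroupOf K)
      (fun k hk => by
        have : (QuotientGroup.mk' (R.subgroupOf K)) k = 1 := (QuotientGroup.eq_one_iff _).2 hk
        rw [MonoidHom.comp_apply, this, map_one]) ψ.2
      (by
        have : (fun k : R.subgroupOf K => (ψ : K → ℂ) k) = θ := funext hψ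
        rw [this]; exact hθ) (n := charDegree (ψ : K → ℂ)) (coe_charDegree ψ.2).symm hd
    obtain ⟨n, hn, hdn⟩ := Link.overN K h3
    refine ⟨n, hn, dvd_trans ?_ hdn⟩
    rw [mul_comm p d, h2]
    exact mul_dvd_mul_left d hpθ

end Cfsg.Agent.H677.Pent
end

-- part: H677/Pent/Small
section
/-!
# The degrees of `PSL(2,4)` and `PSL(2,8)` (helper677)
-/

set_option autoImplicit false

namespace Cfsg.Agent.H677.Pent

open Cfsg Matrix

universe u

theorem to_even {F : Type} [Field F] [Fintype F]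
    (h : Fintype.card F = 4 ∨ Fintype.card F = 5 ∨ Fintype.card F = 8) :
    ∃ (F' : Type) (_ : Field F') (_ : Fintype F'), (Fintype.card F' = 4 ∨ Fintype.card F' = 8) ∧
      Nonempty (Matrix.ProjectiveSpecialLinearGroup (Fin 2) F ≃*
        Matrix.ProjectiveSpecialLinearGroup (Fin 2) F') := by
  rcases h with h | h | h
  · exact ⟨F, inferInstance, inferInstance, Or.inl h, ⟨MulEquiv.refl _⟩⟩
  · haveI : Fact (Nat.Prime 2) := ⟨Nat.prime_two⟩
    letI := Fintype.ofFinite (GaloisField 2 2)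
    have h4 : Fintype.card (GaloisField 2 2) = 4 := by
      rw [← Nat.card_eq_fintype_card, GaloisField.card 2 2 (by norm_num)]
      norm_num
    obtain ⟨e1⟩ := S0253.result h
    obtain ⟨e2⟩ := S0252.result h4
    exact ⟨GaloisField 2 2, inferInstance, inferInstance, Or.inl h4, ⟨e1.trans e2.symm⟩⟩
  · exact ⟨F, inferInstance, inferInstance, Or.inr h, ⟨MulEquiv.refl _⟩⟩

/-- The primes of `PSL(2,F)`, `|F| = 4, 8`. -/
def pr (q : ℕ) : Finset ℕ := if q = 4 then {2, 3, 5} else {2, 3, 7}

theorem card_psl {F : Type} [Field F] [Fintype F] (h : Fintype.card F = 4 ∨ Fintype.card F = 8) :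
    Nat.card (Matrix.ProjectiveSpecialLinearGroup (Fin 2) F) =
      Fintype.card F * (Fintype.card F ^ 2 - 1) := by
  have h1 := S0243.result (F := F) rfl 2 le_rfl
  rw [Fin.prod_univ_two] at h1
  rcases h with h | h <;> rw [h] at h1 ⊢ <;> norm_num at h1 ⊢ <;> omega

theorem prime_dvd_iff {F : Type} [Field F] [Fintype F] (h : Fintype.card F = 4 ∨ Fintype.card F = 8)
    {r : ℕ} (hr : r.Prime) :
    r ∣ Nat.card (Matrix.ProjectiveSpecialLinearGroup (Fin 2) F) ↔ r ∈ pr (Fintype.card F) := by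
  rw [card_psl h]
  have key : ∀ {n : ℕ}, n ≠ 0 → (r ∣ n ↔ r ∈ n.primeFactors) := fun hn =>
    ⟨fun h' => Nat.mem_primeFactors.2 ⟨hr, h', hn⟩, fun h' => Nat.dvd_of_mem_primeFactors h'⟩
  rcases h with h | h <;> rw [h]
  · rw [key (by norm_num)]
    have : (4 * (4 ^ 2 - 1)).primeFactors = pr 4 := by decide +kernel
    rw [this]
  · rw [key (by norm_num)]
    have : (8 * (8 ^ 2 - 1)).primeFactors = pr 8 := by decide +kernel
    rw [this]

theorem degreePrimes_psl {F : Type} [Field F] [Fintype F]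
    (h : Fintype.card F = 4 ∨ Fintype.card F = 8) :
    degreePrimes (Matrix.ProjectiveSpecialLinearGroup (Fin 2) F) = ↑(pr (Fintype.card F)) := by
  have hc : CharP F 2 := by
    obtain ⟨p, hp⟩ := CharP.exists F
    have hpp : p.Prime := (CharP.char_is_prime_or_zero F p).resolve_right (CharP.char_ne_zero_of_finite F p)
    haveI : Fact p.Prime := ⟨hpp⟩
    obtain ⟨n, -, hn⟩ := FiniteField.card F p
    have h2 : p ∣ 2 ^ 3 := by
      have h3 : p ∣ Fintype.card F := by rw [hn]; exact dvd_pow_self _ n.pos.ne'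
      rcases h with h | h <;> rw [h] at h3
      · exact h3.trans (by norm_num)
      · exact h3.trans (by norm_num)
    have h3 := (Nat.prime_dvd_prime_iff_eq hpp Nat.prime_two).1 (hpp.dvd_of_dvd_pow h2)
    rwa [h3] at hp
  have h4 := (S4812.result F (Fintype.card F) rfl (by rcases h with h | h <;> omega)
    (S := Matrix.ProjectiveSpecialLinearGroup (Fin 2) F) (Or.inl ⟨MulEquiv.refl _⟩)).1
  rw [h4]
  ext r
  rw [Set.mem_setOf_eq, ← card_psl h]
  constructor
  · rintro ⟨hr, h5⟩
    exact Finset.mem_coe.2 ((prime_dvd_iff h hr).1 h5)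
  · intro h5
    have h6 := Finset.mem_coe.1 h5
    have hr : r.Prime := by
      have : ∀ q, ∀ x ∈ pr q, x.Prime := by
        intro q x hx
        unfold pr at hx
        split_ifs at hx
        · fin_cases hx <;> norm_num
        · fin_cases hx <;> norm_num
      exact this _ _ h6
    exact ⟨hr, (prime_dvd_iff h hr).2 h6⟩

theorem card_pr (q : ℕ) : (pr q).card = 3 := by
  unfold pr
  split_ifs <;> rfl

end Cfsg.Agent.H677.Pent
end

-- part: H677/Pent/Prod
section
/-!
# Non-solvable groups with triangle-free degree graph: splitting `G = L × R` (helper677)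
-/

set_option autoImplicit false

namespace Cfsg.Agent.H677.Pent

open Cfsg Cfsg.Agent.H671 Matrix
open Cfsg.Agent.H681.DegBasic (mem_charDegrees charDegrees_comp)

universe u

theorem mul_mem_cd {G H : Type*} [Group G] [Finite G] [Group H] [Finite H] {a b : ℕ}
    (ha : a ∈ charDegrees G) (hb : b ∈ charDegrees H) : a * b ∈ charDegrees (G × H) := by
  obtain ⟨α, hα, ha⟩ := mem_charDegrees.1 ha
  obtain ⟨β, hβ, hb⟩ := mem_charDegrees.1 hb
  refine mem_charDegrees.2 ⟨_, (S0188.result _).2 ⟨α, β, hα, hβ, rfl⟩, ?_⟩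
  show α 1 * β 1 = _
  rw [ha, hb]; push_cast; ring

theorem of_mem_cd {G H : Type*} [Group G] [Finite G] [Group H] [Finite H] {n : ℕ}
    (h : n ∈ charDegrees (G × H)) : ∃ a ∈ charDegrees G, ∃ b ∈ charDegrees H, n = a * b := by
  obtain ⟨χ, hχ, hn⟩ := mem_charDegrees.1 h
  obtain ⟨α, β, hα, hβ, rfl⟩ := (S0188.result _).1 hχ
  refine ⟨charDegree α, ⟨⟨α, hα⟩, rfl⟩, charDegree β, ⟨⟨β, hβ⟩, rfl⟩, ?_⟩
  have h1 : α 1 * β 1 = n := hn
  rw [← H672.coe_charDegree hα, ← H672.coe_charDegree hβ] at h1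
  exact_mod_cast h1.symm

theorem exists_prodEquiv {G : Type u} [Group G] (L R : Subgroup G) [hL : L.Normal] [hR : R.Normal]
    (h1 : L ⊓ R = ⊥) (h2 : L ⊔ R = ⊤) : Nonempty (L × R ≃* G) := by
  have hc : ∀ (m : L) (n : R), Commute (L.subtype m) (R.subtype n) := fun m n =>
    Subgroup.commute_of_normal_of_disjoint L R hL hR (disjoint_iff.2 h1) m n m.2 n.2
  refine ⟨MulEquiv.ofBijective (MonoidHom.noncommCoprod L.subtype R.subtype hc) ⟨?_, ?_⟩⟩
  · rw [MonoidHom.noncommCoprod_injective]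
    refine ⟨L.subtype_injective, R.subtype_injective, ?_⟩
    rw [L.range_subtype, R.range_subtype, disjoint_iff, h1]
  · rw [← MonoidHom.range_eq_top, MonoidHom.noncommCoprod_range, L.range_subtype, R.range_subtype, h2]

/-- The perfect residual of `G`, when `G / R` is simple non-abelian and `R` is solvable. -/
theorem exists_residual_sup {G : Type u} [Group G] [Finite G] (R : Subgroup G) [hR : R.Normal]
    (hRs : Group.IsSolvable R) (hs : IsSimpleGroup (G ⧸ R)) (hna : ¬ Group.IsSolvable (G ⧸ R)) :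
    ∃ L : Subgroup G, L.Normal ∧ ⁅L, L⁆ = L ∧ L ⊔ R = ⊤ := by
  obtain ⟨L, hL, hperf, hsol⟩ := Frame.exists_residual G
  refine ⟨L, hL, hperf, ?_⟩
  have h1 : (L.map (QuotientGroup.mk' R)).Normal := hL.map _ (QuotientGroup.mk'_surjective R)
  rcases hs.eq_bot_or_eq_top_of_normal _ h1 with h2 | h2
  · exfalso
    have h3 : L ≤ R := by
      intro x hx
      have h4 : (QuotientGroup.mk' R) x ∈ L.map (QuotientGroup.mk' R) := Subgroup.mem_map_of_mem _ hx
      rw [h2, Subgroup.mem_bot] at h4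
      exact (QuotientGroup.eq_one_iff x).1 h4
    have h5 : Group.IsSolvable L := Group.isSolvable_of_isSolvable_injective (f := Subgroup.inclusion h3) (Subgroup.inclusion_injective h3)
    have h6 : Group.IsSolvable G := Group.isSolvable_of_ker_le_range L.subtype (QuotientGroup.mk' L)
      (by rw [QuotientGroup.ker_mk', Subgroup.range_subtype])
    exact hna (Group.isSolvable_of_surjective (QuotientGroup.mk'_surjective R))
  · rw [eq_top_iff]
    intro x _
    have h3 : (QuotientGroup.mk' R) x ∈ L.map (QuotientGroup.mk' R) := by rw [h2]; trivial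
    obtain ⟨y, hy, hyx⟩ := h3
    have h4 : y⁻¹ * x ∈ R := by
      rw [← QuotientGroup.eq]; exact hyx
    have : x = y * (y⁻¹ * x) := by group
    rw [this]
    exact Subgroup.mul_mem_sup hy h4

end Cfsg.Agent.H677.Pent
end

-- part: H714/Tri/Disc
section
/-!
# Disconnected triangle-free degree graphs with five vertices

* `not_solvable_of_disconnected` : `G` is not solvable (Pálfy);
* `connected_of_outside` : a vertex not dividing the order of the simple section: the graph is connected;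
* `disconnected_structure` : S4945 from the fact on the simple groups;
* `not_connected`, `hMain` : five vertices, all of them dividing the order of the simple section: disconnected.
-/

set_option autoImplicit false
set_option linter.unusedSectionVars false

namespace Cfsg.Agent.H714.Tri

open Cfsg Subgroup Cfsg.Agent.H33 Cfsg.Agent.H988.DG

universe u

variable {G : Type u} [Group G] [Finite G]

theorem triangle (h3 : (degreeGraph G).CliqueFree 3) {a b c : ℕ} (h1 : (degreeGraph G).Adj a b)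
    (h2 : (degreeGraph G).Adj b c) (h4 : (degreeGraph G).Adj a c) : False := by
  refine h3 {a, b, c} ?_
  rw [SimpleGraph.is3Clique_triple_iff]
  exact ⟨h1, h4, h2⟩

/-- A disconnected graph: two vertices which are not reachable. -/
theorem exists_not_reachable (hne : (degreePrimes G).Nonempty)
    (h : ¬ ((degreeGraph G).induce (degreePrimes G)).Connected) :
    ∃ u v : ↥(degreePrimes G), ¬ ((degreeGraph G).induce (degreePrimes G)).Reachable u v := by
  by_contra hcon
  push Not at hcon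
  obtain ⟨x, hx⟩ := hne
  have : Nonempty ↥(degreePrimes G) := ⟨⟨x, hx⟩⟩
  exact h ⟨hcon⟩

theorem reach_of_adj {x y : ℕ} (hx : x ∈ degreePrimes G) (hy : y ∈ degreePrimes G) (h : (degreeGraph G).Adj x y) :
    ((degreeGraph G).induce (degreePrimes G)).Reachable ⟨x, hx⟩ ⟨y, hy⟩ := by
  apply SimpleGraph.Adj.reachable
  exact h

theorem not_solvable_of_disconnected (h5 : Set.ncard (degreePrimes G) = 5) (h3 : (degreeGraph G).CliqueFree 3)
    (hdis : ¬ ((degreeGraph G).induce (degreePrimes G)).Connected) : ¬ Group.IsSolvable G := by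
  classical
  intro hsol
  obtain ⟨P, hP⟩ := exists_finset G
  rw [← hP, Set.ncard_coe_finset] at h5
  have hm : ∀ {a : ℕ}, a ∈ P → a ∈ degreePrimes G := fun ha => by rw [← hP]; exact ha
  have hne : (degreePrimes G).Nonempty := by
    obtain ⟨x, hx⟩ : P.Nonempty := Finset.card_pos.1 (by omega)
    exact ⟨x, hm hx⟩
  obtain ⟨⟨u, hu⟩, ⟨v, hv⟩, huv⟩ := exists_not_reachable hne hdis
  -- every vertex is reachable from one of them, not from both
  let Ru : ℕ → Prop := fun w => ∃ hw : w ∈ degreePrimes G,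
    ((degreeGraph G).induce (degreePrimes G)).Reachable ⟨u, hu⟩ ⟨w, hw⟩
  let Rv : ℕ → Prop := fun w => ∃ hw : w ∈ degreePrimes G,
    ((degreeGraph G).induce (degreePrimes G)).Reachable ⟨v, hv⟩ ⟨w, hw⟩
  have huv' : u ≠ v := by
    rintro rfl
    exact huv (SimpleGraph.Reachable.refl _)
  have hdisj : ∀ x y : ℕ, Ru x → Rv y → x ≠ y ∧ ¬ (degreeGraph G).Adj x y := by
    rintro x y ⟨hx, h1⟩ ⟨hy, h2⟩
    constructor
    · rintro rfl
      exact huv (h1.trans h2.symm)
    · intro h
      exact huv ((h1.trans (reach_of_adj hx hy h)).trans h2.symm)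
  have hu' : Ru u := ⟨hu, SimpleGraph.Reachable.refl _⟩
  have hv' : Rv v := ⟨hv, SimpleGraph.Reachable.refl _⟩
  have hcov : ∀ w ∈ P, Ru w ∨ Rv w := by
    intro w hw
    by_cases hwu : w = u
    · rw [hwu]; exact Or.inl hu'
    by_cases hwv : w = v
    · rw [hwv]; exact Or.inr hv'
    rcases H748.Palfy.palfy hsol hu hv (hm hw) huv' (Ne.symm hwv) (Ne.symm hwu) with h | h | h
    · exact absurd h (hdisj u v hu' hv').2
    · exact Or.inr ⟨hm hw, reach_of_adj hv (hm hw) h⟩
    · exact Or.inl ⟨hm hw, reach_of_adj hu (hm hw) h⟩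
  -- three vertices on one side
  have hA : ∀ x y : ℕ, x ∈ P → y ∈ P → x ≠ y → Ru x → Ru y → (degreeGraph G).Adj x y := by
    intro x y hx hy hxy h1 h2
    rcases H748.Palfy.palfy hsol (hm hx) (hm hy) hv hxy (hdisj y v h2 hv').1 (hdisj x v h1 hv').1 with h | h | h
    · exact h
    · exact absurd h (hdisj y v h2 hv').2
    · exact absurd h (hdisj x v h1 hv').2
  have hB : ∀ x y : ℕ, x ∈ P → y ∈ P → x ≠ y → Rv x → Rv y → (degreeGraph G).Adj x y := by
    intro x y hx hy hxy h1 h2
    rcases H748.Palfy.palfy hsol (hm hx) (hm hy) hu hxy (hdisj u y hu' h2).1.symm (hdisj u x hu' h1).1.symm with h | h | h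
    · exact h
    · exact absurd h.symm (hdisj u y hu' h2).2
    · exact absurd h.symm (hdisj u x hu' h1).2
  have h6 := Finset.card_filter_add_card_filter_not (s := P) (p := fun x => Ru x)
  by_cases h7 : 2 < (P.filter (fun x => Ru x)).card
  · obtain ⟨a, b, c, ha, hb, hc', hab, hac, hbc⟩ := Finset.two_lt_card_iff.1 h7
    simp only [Finset.mem_filter] at ha hb hc'
    exact triangle h3 (hA a b ha.1 hb.1 hab ha.2 hb.2) (hA b c hb.1 hc'.1 hbc hb.2 hc'.2)
      (hA a c ha.1 hc'.1 hac ha.2 hc'.2)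
  · have h8 : 2 < (P.filter (fun x => ¬ Ru x)).card := by omega
    obtain ⟨a, b, c, ha, hb, hc', hab, hac, hbc⟩ := Finset.two_lt_card_iff.1 h8
    simp only [Finset.mem_filter] at ha hb hc'
    have ha2 := (hcov a ha.1).resolve_left ha.2
    have hb2 := (hcov b hb.1).resolve_left hb.2
    have hc2 := (hcov c hc'.1).resolve_left hc'.2
    exact triangle h3 (hB a b ha.1 hb.1 hab ha2 hb2) (hB b c hb.1 hc'.1 hbc hb2 hc2)
      (hB a c ha.1 hc'.1 hac ha2 hc2)

theorem connected_of_outside (T : Fr G) (h3 : (degreeGraph G).CliqueFree 3) {t : ℕ} (ht : t ∈ degreePrimes G)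
    (hn : ¬ t ∣ Nat.card T.L) : ((degreeGraph G).induce (degreePrimes G)).Connected := by
  have h2 : 2 ∣ Nat.card T.L := two_dvd_card_psl T.hF
  have hIM2 : H33.IM 2 T.L := (primes_psl T.hF (MulEquiv.refl T.L)).1
  have h2G : 2 ∈ degreePrimes G := mem_dp_iff.2 ⟨Nat.prime_two, T.im_of_L hIM2⟩
  -- vertices outside are adjacent to all vertices inside
  have key : ∀ s ∈ degreePrimes G, ¬ s ∣ Nat.card T.L → ∀ r : ℕ, r.Prime → r ∣ Nat.card T.L →
      (degreeGraph G).Adj s r := by
    intro s hs hsn r hr hrd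
    have hsp := hs.1
    rcases T.mem outFact h3 hs with h | ⟨-, h⟩
    · exact absurd h hsn
    rcases T.out_R h with ⟨p, q, hp, hq, hpq, hpd, hqd, h4⟩ | ⟨-, h5⟩
    · exact absurd h3 (not_cliqueFree_of_dvd hsp hp hq (fun h => hsn (h ▸ hpd)) hpq (fun h => hsn (h ▸ hqd))
        (by rwa [mul_assoc]))
    · refine H988.DG.adj_iff.2 ⟨fun h => hsn (h ▸ hrd), hsp, hr, h5 r ?_⟩
      exact H664.R1.PSLTwo.im_psl T.hF hr hrd
  have hne : Nonempty ↥(degreePrimes G) := ⟨⟨t, ht⟩⟩
  have hall : ∀ w : ↥(degreePrimes G), ((degreeGraph G).induce (degreePrimes G)).Reachable w ⟨t, ht⟩ := by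
    rintro ⟨w, hw⟩
    by_cases hwd : w ∣ Nat.card T.L
    · exact (reach_of_adj ht hw (key t ht hn w hw.1 hwd)).symm
    · exact (reach_of_adj hw h2G (key w hw hwd 2 Nat.prime_two h2)).trans
        (reach_of_adj ht h2G (key t ht hn 2 Nat.prime_two h2)).symm
  exact ⟨fun x y => (hall x).trans (hall y).symm⟩

/-- **S4945 from the fact on simple groups.** -/
theorem disconnected_structure (hT : Cfsg.Agent.H671.H5.FactTri.{0}) (h5 : Set.ncard (degreePrimes G) = 5)
    (h3 : (degreeGraph G).CliqueFree 3) (hdis : ¬ ((degreeGraph G).induce (degreePrimes G)).Connected) :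
    ∃ H A : Subgroup G, H.Normal ∧ A.Normal ∧ H ⊓ A = ⊥ ∧ H ⊔ A = ⊤ ∧ IsMulCommutative A ∧
      ∃ (f : ℕ) (F : Type) (_ : Field F) (_ : Fintype F), Fintype.card F = 2 ^ f ∧
        (2 ^ f - 1).primeFactors.card = 2 ∧ (2 ^ f + 1).primeFactors.card = 2 ∧
        Nonempty (↥H ≃* Matrix.ProjectiveSpecialLinearGroup (Fin 2) F) := by
  obtain ⟨T⟩ := Fr.exists hT (not_solvable_of_disconnected h5 h3 hdis) h3
  refine struct_five T h3 (fun p hp => ?_) h5
  by_contra hn
  exact hdis (connected_of_outside T h3 hp hn)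

/-- Five vertices in the simple section: the graph is not connected. -/
theorem not_connected (T : Fr G) (h3 : (degreeGraph G).CliqueFree 3) (hcard : Set.ncard (degreePrimes G) = 5)
    (hsub : ∀ p ∈ degreePrimes G, p ∣ Nat.card T.L) :
    ¬ ((degreeGraph G).induce (degreePrimes G)).Connected := by
  classical
  intro hcon
  obtain ⟨H, A, hH, hA, hinf, hsup, hcomm, f, F, iF, iF', hF, hcm, hcp, ⟨e⟩⟩ := struct_five T h3 hsub hcard
  obtain ⟨E⟩ := H677.Pent.exists_prodEquiv H A hinf hsup
  have hf : f ≠ 0 := by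
    rintro rfl
    simp at hcm
  have heven : Even (Fintype.card F) := by
    rw [hF]
    exact (Nat.even_pow' hf).2 even_two
  have hchar : CharP F 2 := by
    have h6 : ringChar F = 2 := FiniteField.even_card_iff_char_two.2 (Nat.even_iff.1 heven)
    rw [← h6]
    exact ringChar.charP F
  have h4 : 4 ≤ Fintype.card F := by
    have h1 := twoP_of_card hcm
    obtain ⟨a, b, ha, hb, hab, had, hbd⟩ := h1
    have hne : 2 ^ f - 1 ≠ 0 := by
      intro h
      rw [h] at hcm
      simp at hcm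
    have h5 := Nat.le_of_dvd (Nat.pos_of_ne_zero hne) had
    have h6 := Nat.le_of_dvd (Nat.pos_of_ne_zero hne) hbd
    have ha2 := ha.two_le
    have hb2 := hb.two_le
    rw [hF]
    omega
  obtain ⟨-, hadj⟩ := S4812.result F (Fintype.card F) rfl h4 (S := H) (Or.inl ⟨e⟩)
  -- `2` is isolated
  have hiso : ∀ s, ¬ (degreeGraph G).Adj 2 s := by
    rintro s ⟨hs2, -, hs, d, hd, hdd⟩
    have hd' : d ∈ charDegrees (H × A) := H671.Link.equiv E hd
    obtain ⟨a, ha, b, hb, rfl⟩ := H677.Pent.of_mem_cd hd'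
    have hb1 : b = 1 := by
      obtain ⟨β, rfl⟩ := hb
      have h5 := S0187.result.1 (fun x y : A => hcomm.is_comm.comm x y) β
      exact H672.charDegree_of_eq (by rw [h5, Nat.cast_one])
    rw [hb1, mul_one] at hdd
    have h5 := (hadj 2 s).1 ⟨hs2, Nat.prime_two, hs, a, ha, hdd⟩
    obtain ⟨k, hk⟩ := heven
    rcases h5.2.2.2 with h6 | h6
    · have := h6.1
      omega
    · have := h6.1
      omega
  have hIM2 : H33.IM 2 T.L := (primes_psl T.hF (MulEquiv.refl T.L)).1
  have h2G : 2 ∈ degreePrimes G := mem_dp_iff.2 ⟨Nat.prime_two, T.im_of_L hIM2⟩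
  obtain ⟨v, hv, hv2⟩ : ∃ v ∈ degreePrimes G, v ≠ 2 := by
    by_contra hno
    push Not at hno
    have h5 : degreePrimes G ⊆ {2} := fun x hx => hno x hx
    have h6 := Set.ncard_le_ncard h5 (Set.finite_singleton 2)
    rw [hcard, Set.ncard_singleton] at h6
    omega
  obtain ⟨w⟩ := hcon.preconnected ⟨2, h2G⟩ ⟨v, hv⟩
  cases w with
  | nil => exact hv2 rfl
  | cons h p => exact hiso _ h

/-- The form used by `H677.Pent.Fin.final`. -/
theorem hMain (G : Type u) [Group G] [Finite G] (R K : Subgroup G) [R.Normal] [K.Normal] (hRK : R ≤ K)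
    (hR : Group.IsSolvable R) (hmax : ∀ N : Subgroup G, N.Normal → Group.IsSolvable N → N ≤ R)
    (F : Type) [Field F] [Fintype F] (hF : 4 ≤ Fintype.card F)
    (he : Nonempty (K.map (QuotientGroup.mk' R) ≃* Matrix.ProjectiveSpecialLinearGroup (Fin 2) F))
    (hC : Subgroup.centralizer ((K.map (QuotientGroup.mk' R) : Subgroup (G ⧸ R)) : Set (G ⧸ R)) = ⊥)
    (h3 : (degreeGraph G).CliqueFree 3) (hcard : Set.ncard (degreePrimes G) = 5)
    (hsub : ∀ p ∈ degreePrimes G, p ∣ Nat.card (Matrix.ProjectiveSpecialLinearGroup (Fin 2) F)) :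
    ¬ ((degreeGraph G).induce (degreePrimes G)).Connected := by
  obtain ⟨e⟩ := he
  exact not_connected (⟨R, K, inferInstance, inferInstance, hRK, hR, hmax, F, inferInstance, inferInstance, hF, e, hC⟩ :
    Fr G) h3 hcard hsub

end Cfsg.Agent.H714.Tri
end
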